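import Cfsg.Agent.PQAct.Basic
import Cfsg.Agent.Lib.Coprime.Hom

/-!
Coprime actions of groups of order `p * q`: restriction, duals, averaging, fixed points in orbits.
-/

set_option autoImplicit false
set_option linter.style.haveILetI false
set_option linter.unusedSectionVars false

namespace Cfsg.Agent.PQAct

open Subgroup

variable {A : Type*} [Group A] {H : Type*} [Group H]

theorem aut_mul {X : Type*} [Mul X] (φ : A →* MulAut X) (a a' : A) (x : X) : φ (a * a') x = φ a (φ a' x) := by
  rw [map_mul]; rfl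

theorem aut_one {X : Type*} [Mul X] (φ : A →* MulAut X) (x : X) : φ 1 x = x := by rw [map_one]; rfl

theorem aut_inv_apply {X : Type*} [Mul X] (φ : A →* MulAut X) (a : A) (x : X) : φ a⁻¹ (φ a x) = x := by
  rw [← aut_mul, inv_mul_cancel, aut_one]

theorem aut_apply_inv {X : Type*} [Mul X] (φ : A →* MulAut X) (a : A) (x : X) : φ a (φ a⁻¹ x) = x := by
  rw [← aut_mul, mul_inv_cancel, aut_one]

theorem fixed_zpowers {X : Type*} [Mul X] (φ : A →* MulAut X) {a : A} {x : X} (hx : φ a x = x) :
    ∀ a' ∈ zpowers a, φ a' x = x := by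
  intro a' ha'
  let K : Subgroup A :=
    { carrier := {s | φ s x = x}
      one_mem' := aut_one φ x
      mul_mem' := fun {s t} hs ht => by
        change φ (s * t) x = x
        rw [aut_mul, ht, hs]
      inv_mem' := fun {s} hs => by
        change φ s⁻¹ x = x
        conv_lhs => rw [← (hs : φ s x = x)]
        rw [aut_inv_apply] }
  exact (zpowers_le.2 (show a ∈ K from hx)) ha'

/-- an element fixed by the two generators is fixed by everything -/
theorem PQ.fixed_of_gen [Finite A] {b c : A} {p q : ℕ} (h : PQ b c p q) {X : Type*} [Mul X] (φ : A →* MulAut X) {x : X}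
    (hb : φ b x = x) (hc : φ c x = x) (a : A) : φ a x = x := by
  let K : Subgroup A :=
    { carrier := {s | φ s x = x}
      one_mem' := aut_one φ x
      mul_mem' := fun {s t} hs ht => by
        change φ (s * t) x = x
        rw [aut_mul, ht, hs]
      inv_mem' := fun {s} hs => by
        change φ s⁻¹ x = x
        conv_lhs => rw [← (hs : φ s x = x)]
        rw [aut_inv_apply] }
  exact h.forall_of_gen (K := K) hb hc a

/-- automorphisms as permutations -/
def autPerm (X : Type*) [Mul X] : MulAut X →* Equiv.Perm X where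
  toFun e := e.toEquiv
  map_one' := rfl
  map_mul' _ _ := rfl

/-- The restriction to an invariant subgroup. -/
def resAut (φ : A →* MulAut H) (R : Subgroup H) (h : ∀ a, ∀ x ∈ R, φ a x ∈ R) : A →* MulAut R where
  toFun a :=
    { toFun := fun x => ⟨φ a x, h a x x.2⟩
      invFun := fun x => ⟨φ a⁻¹ x, h a⁻¹ x x.2⟩
      left_inv := fun x => Subtype.ext (aut_inv_apply φ a x)
      right_inv := fun x => Subtype.ext (aut_apply_inv φ a x)
      map_mul' := fun x y => Subtype.ext (map_mul (φ a) (x : H) y) }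
  map_one' := MulEquiv.ext fun x => Subtype.ext (aut_one φ x)
  map_mul' a a' := MulEquiv.ext fun x => Subtype.ext (aut_mul φ a a' x)

@[simp] theorem resAut_val (φ : A →* MulAut H) (R : Subgroup H) (h : ∀ a, ∀ x ∈ R, φ a x ∈ R)
    (a : A) (x : R) : ((resAut φ R h a x : R) : H) = φ a x := rfl

/-- conjugation of a normalising subgroup on `R` -/
def conjRes (T R : Subgroup H) (h : ∀ t ∈ T, ∀ x ∈ R, t * x * t⁻¹ ∈ R) : T →* MulAut R :=
  resAut (MulAut.conj.comp T.subtype) R fun t => h t t.2

@[simp] theorem conjRes_val (T R : Subgroup H) (h : ∀ t ∈ T, ∀ x ∈ R, t * x * t⁻¹ ∈ R)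
    (t : T) (x : R) : ((conjRes T R h t x : R) : H) = t * x * (t : H)⁻¹ := rfl

/-- The action on characters. -/
def dual {R : Type*} [Group R] {M : Type*} [CommGroup M] (φ : A →* MulAut R) :
    A →* MulAut (R →* M) where
  toFun a :=
    { toFun := fun χ => χ.comp (φ a⁻¹).toMonoidHom
      invFun := fun χ => χ.comp (φ a).toMonoidHom
      left_inv := fun χ => MonoidHom.ext fun x => congrArg χ (aut_inv_apply φ a x)
      right_inv := fun χ => MonoidHom.ext fun x => congrArg χ (aut_apply_inv φ a x)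
      map_mul' := fun _ _ => rfl }
  map_one' := MulEquiv.ext fun χ => MonoidHom.ext fun x => congrArg χ (by
    change φ (1 : A)⁻¹ x = x
    rw [inv_one, aut_one])
  map_mul' a a' := MulEquiv.ext fun χ => MonoidHom.ext fun x => congrArg χ (by
    change φ (a * a')⁻¹ x = φ a'⁻¹ (φ a⁻¹ x)
    rw [mul_inv_rev, aut_mul])

theorem dual_apply {R : Type*} [Group R] {M : Type*} [CommGroup M] (φ : A →* MulAut R) (a : A)
    (χ : R →* M) (x : R) : dual φ a χ x = χ (φ a⁻¹ x) := rfl

theorem dual_eq_iff {R : Type*} [Group R] {M : Type*} [CommGroup M] (φ : A →* MulAut R) (a : A)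
    (χ : R →* M) : dual φ a χ = χ ↔ ∀ x, χ (φ a x) = χ x := by
  constructor
  · intro h x
    conv_lhs => rw [← h]
    rw [dual_apply, aut_inv_apply]
  · intro h
    refine MonoidHom.ext fun x => ?_
    rw [dual_apply]
    conv_rhs => rw [← aut_apply_inv φ a x]
    exact (h _).symm

/-! ### fixed points in cosets -/

/-- a coset mapped to itself by a subgroup `L` of the coprime operator group contains a fixed
point -/
theorem exists_fixed_coset [Finite A] [Finite H] (φ : A →* MulAut H) (L : Subgroup A)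
    (N : Subgroup H) (hN : ∀ a ∈ L, ∀ x ∈ N, φ a x ∈ N)
    (hcop : (Nat.card L).Coprime (Nat.card N)) (hsol : Group.IsSolvable L ∨ Group.IsSolvable N)
    (x : H) (hx : ∀ a ∈ L, x⁻¹ * φ a x ∈ N) : ∃ n ∈ N, ∀ a ∈ L, φ a (x * n) = x * n := by
  obtain ⟨n, hn, hfix⟩ := Cfsg.Agent.Coprime.exists_fixed_in_coset_hom (φ.comp L.subtype) N
    (fun a => hN a a.2) hcop hsol x (fun a => hx a a.2)
  exact ⟨n, hn, fun a ha => hfix ⟨a, ha⟩⟩

/-! ### averaging -/

variable {M : Type*} [CommGroup M]

theorem prod_act_fixed {G : Type*} [Group G] [Fintype G] (D : G →* MulAut M) (m : M) (g : G) :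
    D g (∏ x, D x m) = ∏ x, D x m := by
  rw [map_prod]
  simp only [← aut_mul]
  exact Equiv.prod_comp (Equiv.mulLeft g) (fun x => D x m)

theorem prod_act_eq_one {G : Type*} [Group G] [Fintype G] (D : G →* MulAut M)
    (hfix : ∀ m, (∀ g, D g m = m) → m = 1) (m : M) : ∏ x, D x m = 1 :=
  hfix _ (prod_act_fixed D m)

variable {T : Type*} [Group T]

/-- The averaging lemma. -/
theorem averaging [Finite A] [Finite T] {b c : A} {p q : ℕ} (h : PQ b c p q)
    (φT : A →* MulAut T) (P : T →* MulAut M) (S : A →* MulAut M)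
    (hcomm : ∀ s t m, P s (P t m) = P t (P s m))
    (hcompat : ∀ a t m, S a (P t m) = P (φT a t) (S a m))
    (hA : ∀ m, (∀ a, S a m = m) → m = 1) (hT : ∀ m, (∀ t, P t m = m) → m = 1)
    (U : Subgroup T)
    (hU : ∀ a ∈ zpowers b, a ≠ 1 → ∀ K : Subgroup T, U ≤ K → (∀ u ∈ U, φT a u ∈ K) → K = ⊤)
    {y : M} (hc : S c y = y) (hy : ∀ u ∈ U, P u y = y)
    (hcard : y ^ Nat.card U = 1 → y = 1) : y = 1 := by
  classical
  cases nonempty_fintype (zpowers b)
  cases nonempty_fintype U
  haveI := h.normal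
  set z : M := ∏ a : zpowers b, S (a : A) y with hz
  have hz1 : z = 1 := by
    refine hA z (h.fixed_of_gen S ?_ ?_)
    · exact prod_act_fixed (S.comp (zpowers b).subtype) y ⟨b, mem_zpowers b⟩
    · rw [hz, map_prod]
      simp only [← aut_mul]
      refine Eq.trans (Finset.prod_congr rfl fun a _ => ?_)
        (Equiv.prod_comp (MulAut.conjNormal (H := zpowers b) c).toEquiv (fun a => S (a : A) y))
      change S (c * a) y = S (c * (a : A) * c⁻¹) y
      conv_rhs => rw [← hc, ← aut_mul, inv_mul_cancel_right]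
  have h0 : ∏ a : zpowers b, ∏ u : U, P (u : T) (S (a : A) y) = 1 := by
    rw [Finset.prod_comm]
    refine Finset.prod_eq_one fun u _ => ?_
    rw [← map_prod, ← hz, hz1, map_one]
  rw [Finset.prod_eq_single (1 : zpowers b) ?_ (fun h => absurd (Finset.mem_univ _) h)] at h0
  · apply hcard
    rw [Nat.card_eq_fintype_card, ← Finset.card_univ, ← Finset.prod_const]
    refine Eq.trans (Finset.prod_congr rfl fun u _ => ?_) h0
    rw [OneMemClass.coe_one, aut_one, hy u u.2]
  intro a _ ha
  apply hT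
  let K : Subgroup T :=
    { carrier := {t | P t (∏ u : U, P (u : T) (S (a : A) y)) = ∏ u : U, P (u : T) (S (a : A) y)}
      one_mem' := aut_one P _
      mul_mem' := fun {s t} hs ht => by
        simp only [Set.mem_setOf_eq] at hs ht ⊢
        rw [aut_mul, ht, hs]
      inv_mem' := fun {s} hs => by
        simp only [Set.mem_setOf_eq] at hs ⊢
        conv_lhs => rw [← hs]
        rw [aut_inv_apply] }
  have hK : K = ⊤ := by
    refine hU a a.2 (fun h1 => ha (Subtype.ext h1)) K (fun u hu => ?_) (fun u hu => ?_)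
    · exact prod_act_fixed (P.comp U.subtype) _ ⟨u, hu⟩
    · change P _ _ = _
      rw [map_prod]
      refine Finset.prod_congr rfl fun v _ => ?_
      rw [hcomm, ← hcompat, hy u hu]
  exact fun t => (hK.symm ▸ mem_top t : t ∈ K)

/-- fixed-point-free operators on `T` force trivial action -/
theorem pow_card_eq_one_of_fpf {C : Type*} [Group C] [Fintype C] [Finite T] (φ : C →* MulAut T)
    (P : T →* MulAut M) (S : C →* MulAut M)
    (hcompat : ∀ x t m, S x (P t m) = P (φ x t) (S x m))
    (hT : ∀ m, (∀ t, P t m = m) → m = 1)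
    (hbij : ∀ x : C, x ≠ 1 → Function.Bijective fun t => t⁻¹ * φ x t) {y : M}
    (hsum : ∀ t, ∏ x : C, S x (P t y) = 1) : y ^ Nat.card T = 1 := by
  classical
  cases nonempty_fintype T
  have h0 : ∏ x : C, ∏ t : T, P (t⁻¹ * φ x t) (S x y) = 1 := by
    rw [Finset.prod_comm]
    refine Finset.prod_eq_one fun t _ => ?_
    simp only [aut_mul, ← hcompat]
    rw [← map_prod, hsum, map_one]
  rw [Finset.prod_eq_single (1 : C) ?_ (fun h => absurd (Finset.mem_univ _) h)] at h0
  · rw [Nat.card_eq_fintype_card, ← Finset.card_univ, ← Finset.prod_const]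
    refine Eq.trans (Finset.prod_congr rfl fun t _ => ?_) h0
    rw [aut_one, aut_one, inv_mul_cancel, aut_one]
  intro x _ hx
  rw [(hbij x hx).prod_comp (fun t => P t (S x y))]
  exact prod_act_eq_one P hT _

/-! ### fixed members of invariant orbits -/

theorem exists_fixed_member [Finite A] [Finite T] {b c : A} {p q : ℕ} (h : PQ b c p q) {X : Type*}
    (actT : T →* Equiv.Perm X) (actA : A →* Equiv.Perm X) (φT : A →* MulAut T)
    (hcompat : ∀ a t x, actA a (actT t x) = actT (φT a t) (actA a x))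
    (hcop : (Nat.card T).Coprime (p * q)) (x0 : X) (horb : ∀ a, ∃ t, actA a x0 = actT t x0) :
    ∃ t, ∀ a, actA a (actT t x0) = actT t x0 := by
  classical
  haveI := Fact.mk h.hp
  haveI := Fact.mk h.hq
  haveI := h.normal
  letI : MulAction T X := MulAction.compHom X actT
  letI : MulAction A X := MulAction.compHom X actA
  have hc' : ∀ (a : A) (t : T) (x : X), a • (t • x) = φT a t • (a • x) := hcompat
  set O := MulAction.orbit T x0 with hO
  have hOinv : ∀ (a : A), ∀ x ∈ O, a • x ∈ O := by
    rintro a _ ⟨t, rfl⟩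
    obtain ⟨s, hs⟩ := horb a
    refine ⟨φT a t * s, ?_⟩
    change (φT a t * s) • x0 = a • (t • x0)
    rw [hc', mul_smul]
    exact congrArg (φT a t • ·) hs.symm
  have hcardO : ∀ (S : Subgroup T) (x : X), Nat.card (MulAction.orbit S x) ∣ Nat.card T := by
    intro S x
    refine dvd_trans ?_ S.card_subgroup_dvd_card
    rw [Nat.card_coe_set_eq, ← MulAction.index_stabilizer]
    exact Subgroup.index_dvd_card _
  -- a point fixed by `⟨b⟩`
  let sO : SubMulAction (zpowers b) X := ⟨O, fun a x hx => hOinv a x hx⟩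
  have hfin : O.Finite := Set.finite_range _
  haveI : Finite sO := hfin.to_subtype
  have hnd : ¬ p ∣ Nat.card sO := by
    intro hd
    have h1 : p ∣ Nat.card T := by
      refine hd.trans ?_
      change Nat.card O ∣ _
      rw [hO, Nat.card_coe_set_eq, ← MulAction.index_stabilizer]
      exact Subgroup.index_dvd_card _
    exact h.hp.not_dvd_one (hcop ▸ Nat.dvd_gcd h1 (dvd_mul_right p q))
  have hPb : IsPGroup p (zpowers b) := IsPGroup.of_card (n := 1) (by rw [h.card_B, pow_one])
  obtain ⟨⟨x1, hx1O⟩, hx1⟩ := hPb.nonempty_fixed_point_of_prime_not_dvd_card sO hnd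
  have hx1' : ∀ a ∈ zpowers b, a • x1 = x1 := fun a ha => congrArg Subtype.val (hx1 ⟨a, ha⟩)
  let TB : Subgroup T :=
    { carrier := {t | ∀ a ∈ zpowers b, φT a t = t}
      one_mem' := fun a _ => map_one _
      mul_mem' := fun {s t} hs ht a ha => by rw [map_mul, hs a ha, ht a ha]
      inv_mem' := fun {s} hs a ha => by rw [map_inv, hs a ha] }
  have hiff : ∀ x ∈ O, (∀ a ∈ zpowers b, a • x = x) ↔ x ∈ MulAction.orbit TB x1 := by
    intro x hx
    constructor
    · intro hfix
      obtain ⟨t0, ht0⟩ := hx1O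
      obtain ⟨t', ht'⟩ := hx
      have hx' : x = (t' * t0⁻¹) • x1 := by
        rw [← ht', ← ht0, mul_smul, inv_smul_smul]
      set t := t' * t0⁻¹
      obtain ⟨n, hn, hnfix⟩ := exists_fixed_coset φT (zpowers b) (MulAction.stabilizer T x1)
        (fun a ha u hu => by
          rw [MulAction.mem_stabilizer_iff] at hu ⊢
          conv_lhs => rw [← hx1' a ha, ← hc', hu, hx1' a ha])
        (h.coprime_subgroup (hcop.coprime_dvd_left (Subgroup.card_subgroup_dvd_card _)) _)
        (Or.inl inferInstance) t (fun a ha => by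
          rw [MulAction.mem_stabilizer_iff, mul_smul, inv_smul_eq_iff, ← hx']
          conv_lhs => rw [← hx1' a ha, ← hc', ← hx', hfix a ha])
      refine ⟨⟨t * n, hnfix⟩, ?_⟩
      change (t * n) • x1 = x
      rw [mul_smul, MulAction.mem_stabilizer_iff.1 hn, hx']
    · rintro ⟨⟨t, ht⟩, rfl⟩ a ha
      change a • (t • x1) = t • x1
      rw [hc', ht a ha, hx1' a ha]
  let sC : SubMulAction (zpowers c) X := ⟨{x | x ∈ O ∧ ∀ a ∈ zpowers b, a • x = x}, by
    rintro ⟨g, -⟩ x ⟨hx, hxf⟩
    refine ⟨hOinv g x hx, fun a ha => ?_⟩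
    change a • (g • x) = g • x
    have h1 : g⁻¹ * a * g ∈ zpowers b := by simpa using h.normal.conj_mem a ha g⁻¹
    rw [← mul_smul, show a * g = g * (g⁻¹ * a * g) by group, mul_smul, hxf _ h1]⟩
  have hseq : (sC : Set X) = MulAction.orbit TB x1 := by
    ext x
    constructor
    · rintro ⟨hx, hxf⟩; exact (hiff x hx).1 hxf
    · intro hx
      have hxO : x ∈ O := by
        obtain ⟨⟨t, ht⟩, rfl⟩ := hx
        obtain ⟨t0, ht0⟩ := hx1O
        exact ⟨t * t0, by change (t * t0) • x0 = t • x1; rw [mul_smul, ← ht0]⟩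
      exact ⟨hxO, (hiff x hxO).2 hx⟩
  haveI : Finite sC := (hfin.subset (fun x hx => hx.1)).to_subtype
  have hnd' : ¬ q ∣ Nat.card sC := by
    intro hd
    have h1 : q ∣ Nat.card T := by
      refine hd.trans ?_
      change Nat.card ↥((sC : Set X)) ∣ _
      rw [hseq]
      exact hcardO TB x1
    exact h.hq.not_dvd_one (hcop ▸ Nat.dvd_gcd h1 (dvd_mul_left q p))
  have hPc : IsPGroup q (zpowers c) := IsPGroup.of_card (n := 1) (by rw [h.card_C, pow_one])
  obtain ⟨⟨x2, hx2O, hx2b⟩, hx2⟩ := hPc.nonempty_fixed_point_of_prime_not_dvd_card sC hnd'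
  have hx2c : c • x2 = x2 := congrArg Subtype.val (hx2 ⟨c, mem_zpowers c⟩)
  obtain ⟨t, ht⟩ := hx2O
  refine ⟨t, fun a => ?_⟩
  change a • (t • x0) = t • x0
  rw [show t • x0 = x2 from ht]
  exact h.forall_of_gen (K := MulAction.stabilizer A x2) (hx2b b (mem_zpowers b)) hx2c a

end Cfsg.Agent.PQAct
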