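import Mathlib

/-!
Nonabelian groups of order `p * q`: subgroups and generation.
-/

set_option autoImplicit false
set_option linter.style.haveILetI false
set_option linter.unusedSectionVars false

namespace Cfsg.Agent.PQAct

open Subgroup

/-- `b` spans the normal subgroup of order `p`, `c` is an element of order `q` outside it. -/
structure PQ {A : Type*} [Group A] (b c : A) (p q : ℕ) : Prop where
  hp : p.Prime
  hq : q.Prime
  hne : p ≠ q
  card : Nat.card A = p * q
  normal : (zpowers b).Normal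
  ob : orderOf b = p
  oc : orderOf c = q
  dvd : q ∣ p - 1
  noncomm : ¬ Commute c b

variable {A : Type*} [Group A] [Finite A] {b c : A} {p q : ℕ}

namespace PQ

omit [Finite A] in
theorem card_B (h : PQ b c p q) : Nat.card (zpowers b) = p := by
  rw [Nat.card_zpowers, h.ob]

omit [Finite A] in
theorem card_C (h : PQ b c p q) : Nat.card (zpowers c) = q := by
  rw [Nat.card_zpowers, h.oc]

omit [Finite A] in
theorem not_mem (h : PQ b c p q) : c ∉ zpowers b := by
  rintro ⟨i, rfl⟩
  exact h.noncomm ((Commute.refl b).zpow_left i)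

omit [Finite A] in
theorem commute_mem {x : A} {B : A} (hx : x ∈ zpowers B) {a : A} (h : Commute a B) :
    Commute a x := by
  obtain ⟨i, rfl⟩ := hx
  exact h.zpow_right i

theorem gen_of_mem (h : PQ b c p q) {a : A} (ha : a ∈ zpowers b) (ha1 : a ≠ 1) :
    zpowers a = zpowers b := by
  refine eq_of_le_of_card_ge (zpowers_le.2 ha) ?_
  rw [h.card_B, Nat.card_zpowers]
  have h1 : orderOf a ∣ p := by
    rw [← h.card_B]
    exact Subgroup.orderOf_dvd_natCard _ ha
  rcases (Nat.dvd_prime h.hp).1 h1 with h2 | h2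
  · exact absurd (orderOf_eq_one_iff.1 h2) ha1
  · omega

/-- a subgroup containing `b` and an element outside `⟨b⟩` is everything -/
theorem eq_top_of_mem (h : PQ b c p q) {K : Subgroup A} (hb : b ∈ K) {a : A} (ha : a ∈ K)
    (hab : a ∉ zpowers b) : K = ⊤ := by
  have h1 : Nat.card K ∣ p * q := h.card ▸ K.card_subgroup_dvd_card
  have h2 : p ∣ Nat.card K := h.card_B ▸ card_dvd_of_le (zpowers_le.2 hb)
  obtain ⟨m, hm⟩ := h2
  rw [hm] at h1
  rcases (Nat.dvd_prime h.hq).1 (Nat.dvd_of_mul_dvd_mul_left h.hp.pos h1) with hm1 | hm1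
  · exfalso
    subst hm1
    have : zpowers b = K :=
      eq_of_le_of_card_ge (zpowers_le.2 hb) (by rw [h.card_B, hm, mul_one])
    exact hab (this ▸ ha)
  · subst hm1
    exact eq_top_of_card_eq K (hm.trans h.card.symm)

theorem eq_top (h : PQ b c p q) {K : Subgroup A} (hb : b ∈ K) (hc : c ∈ K) : K = ⊤ :=
  h.eq_top_of_mem hb hc h.not_mem

/-- something closed under the generators holds everywhere -/
theorem forall_of_gen (h : PQ b c p q) {K : Subgroup A} (hb : b ∈ K) (hc : c ∈ K) (a : A) :
    a ∈ K := (h.eq_top hb hc).symm ▸ mem_top a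

/-- any element outside `⟨b⟩` can play the part of `c` -/
theorem change (h : PQ b c p q) {a : A} (ha : a ∉ zpowers b) : PQ b a p q := by
  haveI := h.normal
  have hnc : ¬ Commute a b := by
    intro hcb
    have h1 := h.forall_of_gen (K := centralizer {b})
    have h2 : centralizer ({b} : Set A) = ⊤ :=
      h.eq_top_of_mem (mem_centralizer_singleton_iff.2 rfl)
        (mem_centralizer_singleton_iff.2 hcb.eq) ha
    exact h.noncomm (mem_centralizer_singleton_iff.1 (h2.symm ▸ mem_top c))
  have hq' : a ^ q ∈ zpowers b := by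
    rw [← QuotientGroup.eq_one_iff, QuotientGroup.mk_pow]
    have hidx : Nat.card (A ⧸ zpowers b) = q := by
      have h1 := card_eq_card_quotient_mul_card_subgroup (zpowers b)
      rw [h.card, h.card_B, mul_comm p q] at h1
      exact (Nat.eq_of_mul_eq_mul_right h.hp.pos h1).symm
    rw [← hidx]
    exact pow_card_eq_one'
  have hq1 : a ^ q = 1 := by
    by_contra hne
    apply hnc
    have hb : b ∈ zpowers (a ^ q) := (h.gen_of_mem hq' hne).symm ▸ mem_zpowers b
    exact commute_mem hb ((Commute.refl a).pow_right q)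
  refine { h with oc := ?_, noncomm := hnc }
  rcases (Nat.dvd_prime h.hq).1 (orderOf_dvd_of_pow_eq_one hq1) with h1 | h1
  · exact absurd (orderOf_eq_one_iff.1 h1 ▸ one_mem _) ha
  · exact h1

/-- a nontrivial element has prime order -/
theorem orderOf_cases (h : PQ b c p q) {g : A} (hg : g ≠ 1) : orderOf g = p ∨ orderOf g = q := by
  by_cases hgb : g ∈ zpowers b
  · left
    rw [← Nat.card_zpowers, h.gen_of_mem hgb hg, h.card_B]
  · exact Or.inr (h.change hgb).oc

theorem orderOf_prime (h : PQ b c p q) {g : A} (hg : g ≠ 1) : (orderOf g).Prime := by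
  rcases h.orderOf_cases hg with h1 | h1 <;> rw [h1]
  exacts [h.hp, h.hq]

/-- a proper subgroup is generated by any of its nontrivial elements -/
theorem proper_eq (h : PQ b c p q) {L : Subgroup A} (hL : L ≠ ⊤) {g : A} (hg : g ∈ L)
    (hg1 : g ≠ 1) : L = zpowers g := by
  refine (le_antisymm (zpowers_le.2 hg) ?_).symm
  intro x hx
  have h1 : Nat.card L ∣ p * q := h.card ▸ L.card_subgroup_dvd_card
  have h2 : orderOf g ∣ Nat.card L := Subgroup.orderOf_dvd_natCard _ hg
  suffices Nat.card L ≤ orderOf g by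
    rw [← Nat.card_zpowers] at this
    exact (eq_of_le_of_card_ge (zpowers_le.2 hg) this).symm ▸ hx
  obtain ⟨m, hm⟩ := h2
  rw [hm] at h1
  have key : ∀ {u v : ℕ}, v.Prime → orderOf g = u → u * v = p * q → 0 < u →
      Nat.card L ≤ orderOf g := by
    intro u v hv hu huv h0
    rw [hu, ← huv] at h1
    rcases (Nat.dvd_prime hv).1 (Nat.dvd_of_mul_dvd_mul_left h0 h1) with rfl | rfl
    · rw [hm, mul_one]
    · exact absurd (eq_top_of_card_eq L (by rw [hm, hu, huv, h.card])) hL
  rcases h.orderOf_cases hg1 with h3 | h3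
  · exact key h.hq h3 rfl h.hp.pos
  · exact key h.hp h3 (mul_comm q p) h.hq.pos

/-- two distinct conjugates of `⟨c⟩` generate -/
theorem eq_top_of_conj (h : PQ b c p q) {K : Subgroup A} {a : A} (ha : a ∈ zpowers b) (ha1 : a ≠ 1)
    (hc : c ∈ K) (hac : a * c * a⁻¹ ∈ K) : K = ⊤ := by
  have hz : a * (c * a⁻¹ * c⁻¹) ∈ zpowers b :=
    mul_mem ha (h.normal.conj_mem _ (inv_mem ha) c)
  have hzK : a * c * a⁻¹ * c⁻¹ ∈ K := mul_mem hac (inv_mem hc)
  rw [show a * c * a⁻¹ * c⁻¹ = a * (c * a⁻¹ * c⁻¹) by group] at hzK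
  have hz1 : a * (c * a⁻¹ * c⁻¹) ≠ 1 := by
    intro h1
    apply h.noncomm
    have hca : Commute c a := by
      have h2 : a * c * a⁻¹ * c⁻¹ = 1 := by rw [← h1]; group
      exact (mul_inv_eq_iff_eq_mul.1 (mul_inv_eq_one.1 h2)).symm
    exact commute_mem ((h.gen_of_mem ha ha1).symm ▸ mem_zpowers b) hca
  exact h.eq_top ((zpowers_le.2 hzK) ((h.gen_of_mem hz hz1).symm ▸ mem_zpowers b)) hc

theorem isSolvable (h : PQ b c p q) : Group.IsSolvable A := by
  haveI := h.normal
  haveI : Group.IsSolvable (zpowers b) := inferInstance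
  haveI : IsCyclic (A ⧸ zpowers b) := by
    have h1 := card_eq_card_quotient_mul_card_subgroup (zpowers b)
    rw [h.card, h.card_B, mul_comm p q] at h1
    exact isCyclic_of_prime_card (hp := ⟨h.hq⟩) (Nat.eq_of_mul_eq_mul_right h.hp.pos h1).symm
  haveI : Group.IsSolvable (A ⧸ zpowers b) := inferInstance
  exact Group.isSolvable_of_ker_le_range (zpowers b).subtype (QuotientGroup.mk' (zpowers b))
    (by rw [QuotientGroup.ker_mk', range_subtype])

theorem natCast_ne_zero {K : Type*} [Field K] (h : PQ b c p q) (hpK : (p : K) ≠ 0)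
    (hqK : (q : K) ≠ 0) (L : Subgroup A) : (Nat.card L : K) ≠ 0 := by
  obtain ⟨m, hm⟩ := h.card ▸ L.card_subgroup_dvd_card
  intro h0
  have : ((p * q : ℕ) : K) = 0 := by rw [hm, Nat.cast_mul, h0, zero_mul]
  rw [Nat.cast_mul] at this
  exact mul_ne_zero hpK hqK this

theorem coprime_subgroup (h : PQ b c p q) {n : ℕ} (hn : n.Coprime (p * q)) (L : Subgroup A) :
    (Nat.card L).Coprime n :=
  (hn.coprime_dvd_right (h.card ▸ L.card_subgroup_dvd_card)).symm

end PQ

theorem exists_pq_of_lt {A : Type*} [Group A] [Finite A] {p q : ℕ} (hp : p.Prime) (hq : q.Prime)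
    (hlt : q < p) (hA : Nat.card A = p * q) (hAna : ¬ IsMulCommutative A) :
    ∃ b c : A, PQ b c p q := by
  haveI := Fact.mk hp
  haveI := Fact.mk hq
  obtain ⟨b, hb⟩ := exists_prime_orderOf_dvd_card' (G := A) p (hA ▸ dvd_mul_right p q)
  obtain ⟨c, hc⟩ := exists_prime_orderOf_dvd_card' (G := A) q (hA ▸ dvd_mul_left q p)
  have hbn : (zpowers b).Normal := by
    apply normal_of_index_eq_minFac_card
    have h1 := (zpowers b).card_mul_index
    rw [Nat.card_zpowers, hb, hA] at h1
    rw [Nat.eq_of_mul_eq_mul_left hp.pos h1, hA]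
    refine le_antisymm ?_ (Nat.minFac_le_of_dvd hq.two_le (dvd_mul_left q p))
    have h2 := Nat.minFac_prime (n := p * q) (by nlinarith [hp.two_le, hq.two_le])
    rcases h2.dvd_mul.1 (Nat.minFac_dvd (p * q)) with h3 | h3
    · rw [(Nat.prime_dvd_prime_iff_eq h2 hp).1 h3]; exact hlt.le
    · rw [(Nat.prime_dvd_prime_iff_eq h2 hq).1 h3]
  haveI := hbn
  have hcB : c ∉ zpowers b := by
    intro hmem
    have := Subgroup.orderOf_dvd_natCard _ hmem
    rw [Nat.card_zpowers, hb, hc, Nat.prime_dvd_prime_iff_eq hq hp] at this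
    omega
  have htop : ∀ K : Subgroup A, b ∈ K → c ∈ K → K = ⊤ := by
    intro K h1 h2
    apply eq_top_of_card_eq
    refine Nat.dvd_antisymm K.card_subgroup_dvd_card ?_
    rw [hA]
    refine Nat.Coprime.mul_dvd_of_dvd_of_dvd ((Nat.coprime_primes hp hq).2 hlt.ne') ?_ ?_
    · exact hb ▸ Subgroup.orderOf_dvd_natCard _ h1
    · exact hc ▸ Subgroup.orderOf_dvd_natCard _ h2
  have hnc : ¬ Commute c b := by
    intro hcb
    apply hAna
    have h1 : center A = ⊤ := by
      refine htop _ ?_ ?_
      · rw [mem_center_iff]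
        intro g
        exact (mem_centralizer_singleton_iff (k := g) (g := b)).1
          ((htop _ (mem_centralizer_singleton_iff.2 rfl)
            (mem_centralizer_singleton_iff.2 hcb.eq)).symm ▸ mem_top g)
      · rw [mem_center_iff]
        intro g
        exact (mem_centralizer_singleton_iff (k := g) (g := c)).1
          ((htop _ (mem_centralizer_singleton_iff.2 hcb.symm.eq)
            (mem_centralizer_singleton_iff.2 rfl)).symm ▸ mem_top g)
    exact ⟨⟨fun x y => (mem_center_iff.1 (h1.symm ▸ mem_top y) x)⟩⟩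
  refine ⟨b, c, hp, hq, hlt.ne', hA, hbn, hb, hc, ?_, hnc⟩
  letI : MulAction (zpowers c) (zpowers b) :=
    MulAction.compHom _ ((MulAut.conjNormal (H := zpowers b)).comp (zpowers c).subtype)
  have hP : IsPGroup q (zpowers c) := IsPGroup.of_card (n := 1) (by rw [Nat.card_zpowers, hc, pow_one])
  have hmod := hP.card_modEq_card_fixedPoints (zpowers b)
  have hfix : MulAction.fixedPoints (zpowers c) (zpowers b) = {1} := by
    ext x
    simp only [MulAction.mem_fixedPoints, Set.mem_singleton_iff]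
    constructor
    · intro hx
      by_contra hx1
      have h1 := congrArg (fun z : zpowers b => (z : A)) (hx ⟨c, mem_zpowers c⟩)
      replace h1 : c * (x : A) * c⁻¹ = (x : A) := h1
      apply hnc
      have hgen : zpowers (x : A) = zpowers b := by
        refine eq_of_le_of_card_ge (zpowers_le.2 x.2) ?_
        rw [Nat.card_zpowers, Nat.card_zpowers, hb]
        have h2 : orderOf (x : A) ∣ p := by
          have h3 := Subgroup.orderOf_dvd_natCard _ x.2
          rw [Nat.card_zpowers, hb] at h3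
          exact h3
        rcases (Nat.dvd_prime hp).1 h2 with h3 | h3
        · exact absurd (Subtype.ext (orderOf_eq_one_iff.1 h3)) hx1
        · omega
      exact PQ.commute_mem (hgen.symm ▸ mem_zpowers b) (mul_inv_eq_iff_eq_mul.1 h1)
    · rintro rfl g
      exact map_one ((MulAut.conjNormal (H := zpowers b)) (g : A))
  rw [hfix] at hmod
  rw [Nat.card_zpowers, hb, Nat.card_unique] at hmod
  exact (Nat.modEq_iff_dvd' hp.pos).1 hmod.symm

theorem exists_pq {A : Type*} [Group A] [Finite A] {p q : ℕ} (hp : p.Prime) (hq : q.Prime)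
    (hpq : p ≠ q) (hA : Nat.card A = p * q) (hAna : ¬ IsMulCommutative A) :
    ∃ (P Q : ℕ) (b c : A), PQ b c P Q ∧ P * Q = p * q := by
  rcases lt_or_gt_of_ne hpq with h | h
  · obtain ⟨b, c, hbc⟩ := exists_pq_of_lt hq hp h (hA.trans (mul_comm p q)) hAna
    exact ⟨q, p, b, c, hbc, mul_comm q p⟩
  · obtain ⟨b, c, hbc⟩ := exists_pq_of_lt hp hq h hA hAna
    exact ⟨p, q, b, c, hbc, rfl⟩

end Cfsg.Agent.PQAct
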