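import Cfsg.Agent.PQAct.Linear
import Cfsg.Agent.FGS73.Minimal
import Cfsg.Agent.FGS73.Basic
import Cfsg.Agent.Lib.PGroup.Basic

/-!
A minimal pair `(R, T)` of invariant subgroups with `[R, T] ≠ 1`: characters of `R` with a
nontrivial common stabiliser on their `T`-orbit are trivial.
-/

set_option autoImplicit false
set_option linter.style.haveILetI false
set_option linter.unusedSectionVars false

namespace Cfsg.Agent.PQAct

open Subgroup

variable {A : Type*} [Group A] {H : Type*} [Group H]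

/-- a minimal pair of invariant subgroups not centralising each other -/
structure Crit (φ : A →* MulAut H) (r t : ℕ) (R T : Subgroup H) : Prop where
  hr : r.Prime
  ht : t.Prime
  hne : r ≠ t
  Rp : IsPGroup r R
  Tp : IsPGroup t T
  Ri : ∀ a, ∀ x ∈ R, φ a x ∈ R
  Ti : ∀ a, ∀ x ∈ T, φ a x ∈ T
  norm : ∀ s ∈ T, ∀ x ∈ R, s * x * s⁻¹ ∈ R
  minR : ∀ R₁ : Subgroup H, R₁ < R → (∀ a, ∀ x ∈ R₁, φ a x ∈ R₁) →
    (∀ s ∈ T, ∀ x ∈ R₁, s * x * s⁻¹ ∈ R₁) → ∀ s ∈ T, ∀ x ∈ R₁, s * x = x * s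
  minT : ∀ T₁ : Subgroup H, T₁ < T → (∀ a, ∀ x ∈ T₁, φ a x ∈ T₁) →
    ∀ s ∈ T₁, ∀ x ∈ R, s * x = x * s
  ne : ¬ ∀ s ∈ T, ∀ x ∈ R, s * x = x * s

/-- `[T, L]` -/
def comT {T : Type*} [Group T] (φT : A →* MulAut T) (L : Subgroup A) : Subgroup T :=
  closure {x | ∃ l ∈ L, ∃ t, t⁻¹ * φT l t = x}

theorem mem_comT {T : Type*} [Group T] (φT : A →* MulAut T) {L : Subgroup A} {l : A} (hl : l ∈ L)
    (t : T) : t⁻¹ * φT l t ∈ comT φT L :=
  subset_closure ⟨l, hl, t, rfl⟩

theorem map_subtype_lt {G : Type*} [Group G] {T : Subgroup G} {K : Subgroup T} (hK : K ≠ ⊤) :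
    K.map T.subtype < T := by
  refine lt_of_le_of_ne (map_subtype_le K) fun h => hK ?_
  rw [eq_top_iff]
  intro x _
  have hx : (x : G) ∈ K.map T.subtype := h.symm ▸ x.2
  obtain ⟨y, hy, hyx⟩ := hx
  exact (Subtype.ext hyx : y = x) ▸ hy

theorem map_subtype_invariant {G : Type*} [Group G] {T : Subgroup G} (φ : A →* MulAut G)
    (hT : ∀ a, ∀ x ∈ T, φ a x ∈ T) {K : Subgroup T}
    (hK : ∀ a, ∀ x ∈ K, resAut φ T hT a x ∈ K) :
    ∀ a, ∀ x ∈ K.map T.subtype, φ a x ∈ K.map T.subtype := by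
  rintro a _ ⟨y, hy, rfl⟩
  exact ⟨_, hK a y hy, rfl⟩

theorem pow_eq_one_trivial {R M : Type*} [Group R] [Finite R] [CommGroup M] {χ : R →* M} {n : ℕ}
    (hn : n.Coprime (Nat.card R)) (h : χ ^ n = 1) : χ = 1 := by
  refine MonoidHom.ext fun x => ?_
  have h1 : χ x ^ n = 1 := DFunLike.congr_fun h x
  have h2 : χ x ^ Nat.card R = 1 := by rw [← map_pow, pow_card_eq_one', map_one]
  rw [MonoidHom.one_apply, ← orderOf_eq_one_iff]
  exact Nat.eq_one_of_dvd_coprimes hn (orderOf_dvd_of_pow_eq_one h1) (orderOf_dvd_of_pow_eq_one h2)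

namespace Crit

variable {φ : A →* MulAut H} {r t : ℕ} {R T : Subgroup H}

theorem coprime_card [Finite H] (C : Crit φ r t R T) :
    (Nat.card T).Coprime (Nat.card R) := by
  haveI := Fact.mk C.hr
  haveI := Fact.mk C.ht
  obtain ⟨i, hi⟩ := IsPGroup.iff_card.1 C.Tp
  obtain ⟨j, hj⟩ := IsPGroup.iff_card.1 C.Rp
  rw [hi, hj]
  exact Nat.coprime_pow_primes _ _ C.ht C.hr C.hne.symm

/-- `[R, T] = R` -/
theorem gen_top [Finite H] (C : Crit φ r t R T) :
    closure {x : R | ∃ (s : T) (y : R), y⁻¹ * conjRes T R C.norm s y = x} = ⊤ := by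
  set L : Subgroup R := closure {x | ∃ (s : T) (y : R), y⁻¹ * conjRes T R C.norm s y = x} with hLdef
  by_contra hL
  apply C.ne
  have hLa : ∀ a, ∀ x ∈ L, resAut φ R C.Ri a x ∈ L := by
    intro a
    have h1 : L ≤ L.comap (resAut φ R C.Ri a).toMonoidHom := by
      rw [closure_le]
      rintro _ ⟨s, y, rfl⟩
      refine subset_closure ⟨resAut φ T C.Ti a s, resAut φ R C.Ri a y, Subtype.ext ?_⟩
      change (φ a y)⁻¹ * (φ a (s : H) * φ a y * (φ a (s : H))⁻¹) =
        φ a ((y : H)⁻¹ * ((s : H) * y * (s : H)⁻¹))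
      simp only [map_mul, map_inv]
    exact fun x hx => h1 hx
  have hLt : ∀ u : T, ∀ x ∈ L, conjRes T R C.norm u x ∈ L := by
    intro u
    have h1 : L ≤ L.comap (conjRes T R C.norm u).toMonoidHom := by
      rw [closure_le]
      rintro _ ⟨s, y, rfl⟩
      refine subset_closure ⟨u * s * u⁻¹, conjRes T R C.norm u y, Subtype.ext ?_⟩
      simp only [Subgroup.coe_mul, conjRes_val, InvMemClass.coe_inv, MulEquiv.coe_toMonoidHom]
      group
    exact fun x hx => h1 hx
  have hcen := C.minR (L.map R.subtype) (map_subtype_lt hL)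
    (map_subtype_invariant φ C.Ri hLa) (by
      rintro s hs _ ⟨y, hy, rfl⟩
      exact ⟨_, hLt ⟨s, hs⟩ y hy, rfl⟩)
  intro s hs x hx
  have hd : x⁻¹ * (s * x * s⁻¹) ∈ L.map R.subtype :=
    ⟨_, subset_closure ⟨⟨s, hs⟩, ⟨x, hx⟩, rfl⟩, rfl⟩
  set d := x⁻¹ * (s * x * s⁻¹) with hdd
  have hcomm : s * d = d * s := hcen s hs d hd
  have hit : ∀ n : ℕ, s ^ n * x * (s ^ n)⁻¹ = x * d ^ n := by
    intro n
    induction n with
    | zero => simp
    | succ n ih =>
      have hc : s * d ^ n * s⁻¹ = d ^ n := by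
        rw [← conj_pow, hcomm, mul_inv_cancel_right]
      calc s ^ (n + 1) * x * (s ^ (n + 1))⁻¹ = s * (s ^ n * x * (s ^ n)⁻¹) * s⁻¹ := by
            rw [pow_succ']; group
        _ = (s * x * s⁻¹) * (s * d ^ n * s⁻¹) := by rw [ih]; group
        _ = x * d ^ (n + 1) := by
            rw [hc, show s * x * s⁻¹ = x * d by rw [hdd]; group, pow_succ', mul_assoc]
  have hsT : s ^ Nat.card T = 1 := by
    have h1 : (⟨s, hs⟩ : T) ^ Nat.card T = 1 := pow_card_eq_one'
    exact (SubmonoidClass.coe_pow (⟨s, hs⟩ : T) _).symm.trans (congrArg Subtype.val h1)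
  have h2 := hit (Nat.card T)
  rw [hsT, one_mul, inv_one, mul_one, eq_comm, mul_eq_left] at h2
  have hdR : d ∈ R := map_subtype_le L hd
  have h3 : d = 1 := orderOf_eq_one_iff.1 (Nat.eq_one_of_dvd_coprimes C.coprime_card
    (orderOf_dvd_of_pow_eq_one h2) (Subgroup.orderOf_dvd_natCard _ hdR))
  rw [hdd, inv_mul_eq_one] at h3
  exact (eq_mul_inv_iff_mul_eq.1 h3).symm

/-- a `T`-fixed character of `R` is trivial -/
theorem char_T_trivial [Finite H] (C : Crit φ r t R T) {M : Type*} [CommGroup M] (χ : R →* M)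
    (hχ : ∀ s, dual (conjRes T R C.norm) s χ = χ) : χ = 1 := by
  have hle : closure {x : R | ∃ (s : T) (y : R), y⁻¹ * conjRes T R C.norm s y = x} ≤ χ.ker := by
    rw [closure_le]
    rintro _ ⟨s, y, rfl⟩
    rw [SetLike.mem_coe, MonoidHom.mem_ker, map_mul, map_inv, (dual_eq_iff _ s χ).1 (hχ s),
      inv_mul_cancel]
  exact MonoidHom.ext fun x => MonoidHom.mem_ker.1 (hle (C.gen_top.symm ▸ mem_top x))

/-- proper characteristic subgroups of `R` are central -/
theorem char_le_center [Finite H] (C : Crit φ r t R T) (F : Subgroup R) [hF : F.Characteristic]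
    (hne : F ≠ ⊤) : F ≤ center R := by
  have hchar : ∀ e : R ≃* R, ∀ x ∈ F, e x ∈ F := fun e x hx =>
    Subgroup.characteristic_iff_map_eq.1 hF e ▸ ⟨x, hx, rfl⟩
  have hcen := C.minR (F.map R.subtype) (map_subtype_lt hne)
    (map_subtype_invariant φ C.Ri fun a => hchar _) (by
      rintro s hs _ ⟨y, hy, rfl⟩
      exact ⟨_, hchar (conjRes T R C.norm ⟨s, hs⟩) y hy, rfl⟩)
  intro f hf
  have hfix : ∀ (s : T), ∀ g ∈ F, conjRes T R C.norm s g = g := fun s g hg => by
    apply Subtype.ext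
    have h1 : (s : H) * g = g * s := hcen s s.2 _ ⟨g, hg, rfl⟩
    rw [conjRes_val, h1, mul_inv_cancel_right]
  have hle : closure {x : R | ∃ (s : T) (y : R), y⁻¹ * conjRes T R C.norm s y = x} ≤
      centralizer {f} := by
    rw [closure_le]
    rintro _ ⟨s, y, rfl⟩
    rw [SetLike.mem_coe, mem_centralizer_singleton_iff]
    set σ := conjRes T R C.norm s
    have h1 : σ (y * f * y⁻¹) = y * f * y⁻¹ := hfix s _ (hchar (MulAut.conj y) f hf)
    rw [map_mul, map_mul, map_inv, hfix s f hf] at h1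
    calc y⁻¹ * σ y * f = y⁻¹ * (σ y * f * (σ y)⁻¹) * σ y := by group
      _ = y⁻¹ * (y * f * y⁻¹) * σ y := by rw [h1]
      _ = f * (y⁻¹ * σ y) := by group
  rw [mem_center_iff]
  intro y
  exact mem_centralizer_singleton_iff.1 (hle (C.gen_top.symm ▸ mem_top y))

/-- the action of `T` on `R` is commutative -/
theorem comm_act [Finite H] (C : Crit φ r t R T) (s u : T) (x : R) :
    conjRes T R C.norm s (conjRes T R C.norm u x) = conjRes T R C.norm u (conjRes T R C.norm s x) := by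
  haveI := Fact.mk C.ht
  haveI hsol : Group.IsNilpotent T := C.Tp.isNilpotent
  rcases subsingleton_or_nontrivial T with hs | hs
  · rw [Subsingleton.elim s u]
  have hlt : (commutator T).map T.subtype < T :=
    map_subtype_lt (Group.IsSolvable.commutator_lt_top_of_nontrivial T).ne
  have hinv := map_subtype_invariant φ C.Ti (K := commutator T) (fun a x hx => by
    have h1 := Subgroup.characteristic_iff_map_eq.1
      (inferInstance : (commutator T).Characteristic) (resAut φ T C.Ti a)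
    exact h1 ▸ ⟨x, hx, rfl⟩)
  have hz := C.minT _ hlt hinv ((u⁻¹ * s⁻¹ * u * s : T) : H) ⟨_, by
    rw [commutator_def]
    have h1 := commutator_mem_commutator (H₁ := (⊤ : Subgroup T)) (H₂ := ⊤) (mem_top u⁻¹)
      (mem_top s⁻¹)
    rwa [commutatorElement_def, inv_inv, inv_inv] at h1, rfl⟩ x x.2
  apply Subtype.ext
  simp only [conjRes_val]
  simp only [Subgroup.coe_mul, InvMemClass.coe_inv] at hz
  have h2 : (u : H)⁻¹ * (s : H)⁻¹ * u * s * x * ((u : H)⁻¹ * (s : H)⁻¹ * u * s)⁻¹ = (x : H) := by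
    rw [hz]; group
  symm
  calc (u : H) * (s * x * (s : H)⁻¹) * (u : H)⁻¹ = (s : H) * u *
        ((u : H)⁻¹ * (s : H)⁻¹ * u * s * x * ((u : H)⁻¹ * (s : H)⁻¹ * u * s)⁻¹) *
        ((s : H) * u)⁻¹ := by group
    _ = _ := by rw [h2]; group

/-- either `b` centralises `T` or `[T, b] = T` -/
theorem comT_top [Finite A] [Finite H] {b c : A} {p q : ℕ} (hpq : PQ b c p q)
    (hcop : (Nat.card H).Coprime (p * q)) (C : Crit φ r t R T) {t₀ : T}
    (ht₀ : resAut φ T C.Ti b t₀ ≠ t₀) : comT (resAut φ T C.Ti) (zpowers b) = ⊤ := by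
  by_contra hne
  haveI := hpq.normal
  set φT := resAut φ T C.Ti
  apply C.ne
  let Cb : Subgroup T :=
    { carrier := {x | ∀ l ∈ zpowers b, φT l x = x}
      one_mem' := fun l _ => map_one _
      mul_mem' := fun {x y} hx hy l hl => by rw [map_mul, hx l hl, hy l hl]
      inv_mem' := fun {x} hx l hl => by rw [map_inv, hx l hl] }
  have hCb : Cb ≠ ⊤ := fun h1 => ht₀ ((h1.symm ▸ mem_top t₀ : t₀ ∈ Cb) b (mem_zpowers b))
  have hCbi : ∀ a, ∀ x ∈ Cb, φT a x ∈ Cb := by
    intro a x hx l hl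
    have h1 : a⁻¹ * l * a ∈ zpowers b := by simpa using hpq.normal.conj_mem l hl a⁻¹
    rw [← aut_mul, show l * a = a * (a⁻¹ * l * a) by group, aut_mul, hx _ h1]
  have hTbi : ∀ a, ∀ x ∈ comT φT (zpowers b), φT a x ∈ comT φT (zpowers b) := by
    intro a
    have h1 : comT φT (zpowers b) ≤ (comT φT (zpowers b)).comap (φT a).toMonoidHom := by
      conv_lhs => rw [comT]
      rw [closure_le]
      rintro _ ⟨l, hl, x, rfl⟩
      change φT a (x⁻¹ * φT l x) ∈ comT φT (zpowers b)
      have h2 := mem_comT φT (hpq.normal.conj_mem l hl a) (φT a x)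
      rwa [← aut_mul φT (a * l * a⁻¹), inv_mul_cancel_right, aut_mul, ← map_inv,
        ← map_mul] at h2
    exact fun x hx => h1 hx
  have h1 := C.minT _ (map_subtype_lt hCb) (map_subtype_invariant φ C.Ti hCbi)
  have h2 := C.minT _ (map_subtype_lt hne) (map_subtype_invariant φ C.Ti hTbi)
  intro s hs x hx
  obtain ⟨n, hn, hfix⟩ := exists_fixed_coset φT (zpowers b) (comT φT (zpowers b))
    (fun a _ => hTbi a)
    (hpq.coprime_subgroup ((hcop.coprime_dvd_left T.card_subgroup_dvd_card).coprime_dvd_left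
      (Subgroup.card_subgroup_dvd_card _)) _)
    (Or.inl inferInstance) ⟨s, hs⟩ (fun l hl => mem_comT φT hl _)
  have h3 := h1 _ ⟨_, hfix, rfl⟩ x hx
  have h4 := h2 _ ⟨n, hn, rfl⟩ x hx
  simp only [coe_subtype, Subgroup.coe_mul] at h3 h4
  have h5 : s * x * (n : H) = x * s * n := by
    rw [mul_assoc s, ← h4, ← mul_assoc, h3, mul_assoc]
  exact mul_right_cancel h5

end Crit

namespace Setup

variable {K : Type*} [Field K] {U : Type*} [AddCommGroup U] [Module K U]
variable {b c : A} {p q : ℕ} {φ : A →* MulAut H} {ρ : H →* Module.End K U}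
  {S : A →* Module.End K U} {r t : ℕ} {R T : Subgroup H}

/-- elements of `[T, L]` fix a character whose whole orbit is fixed by `L` -/
theorem comT_fix [Finite H] (C : Crit φ r t R T) {M : Type*} [CommGroup M] (L : Subgroup A)
    (χ : R →* M) (hχ : ∀ l ∈ L, ∀ s, dual (resAut φ R C.Ri) l (dual (conjRes T R C.norm) s χ) =
      dual (conjRes T R C.norm) s χ) :
    ∀ u ∈ comT (resAut φ T C.Ti) L, dual (conjRes T R C.norm) u χ = χ := by
  set DT : T →* MulAut (R →* M) := dual (conjRes T R C.norm)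
  let St : Subgroup T :=
    { carrier := {u | DT u χ = χ}
      one_mem' := aut_one _ χ
      mul_mem' := fun {x y} hx hy => by
        simp only [Set.mem_ofPred_eq] at hx hy ⊢
        rw [aut_mul, hy, hx]
      inv_mem' := fun {x} hx => by
        simp only [Set.mem_ofPred_eq] at hx ⊢
        conv_lhs => rw [← hx]
        rw [aut_inv_apply] }
  suffices h : comT (resAut φ T C.Ti) L ≤ St from fun u hu => h hu
  rw [comT, closure_le]
  rintro _ ⟨l, hl, s, rfl⟩
  change DT (s⁻¹ * resAut φ T C.Ti l s) χ = χ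
  rw [aut_mul]
  have h1 : dual (resAut φ R C.Ri) l χ = χ := by simpa [aut_one] using hχ l hl 1
  have h2 := hχ l hl s
  rw [dual_compat R T C.Ri C.Ti C.norm, h1] at h2
  rw [h2, aut_inv_apply]

theorem fpf_bijective [Finite A] [Finite H] (h : Setup b c p q φ ρ S) (C : Crit φ r t R T)
    (hb : ∀ s : T, resAut φ T C.Ti b s = s) {x : A} (hx : x ∈ zpowers c) (hx1 : x ≠ 1) :
    Function.Bijective fun s : T => s⁻¹ * resAut φ T C.Ti x s := by
  refine FGS73.bijective_inv_mul (resAut φ T C.Ti x).toMonoidHom fun s hs => ?_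
  have hxb : x ∉ zpowers b := by
    intro hxb
    apply h.pq.not_mem
    have h1 : zpowers x = zpowers c := by
      refine eq_of_le_of_card_ge (zpowers_le.2 hx) ?_
      rw [h.pq.card_C, Nat.card_zpowers]
      rcases (Nat.dvd_prime h.pq.hq).1
        (h.pq.card_C ▸ Subgroup.orderOf_dvd_natCard _ hx) with h2 | h2
      · exact absurd (orderOf_eq_one_iff.1 h2) hx1
      · rw [h2]
    exact (zpowers_le.2 hxb) (h1.symm ▸ mem_zpowers c)
  refine Subtype.ext (h.fix _ fun a => ?_)
  exact congrArg Subtype.val ((h.pq.change hxb).fixed_of_gen (resAut φ T C.Ti) (hb s) hs a)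

/-- a character all whose `T`-conjugates are fixed by `⟨b⟩` is trivial -/
theorem char_trivial_B [Finite A] [Finite H] (h : Setup b c p q φ ρ S) (C : Crit φ r t R T)
    {M : Type*} [CommGroup M] (χ : R →* M)
    (hχ : ∀ l ∈ zpowers b, ∀ s, dual (resAut φ R C.Ri) l (dual (conjRes T R C.norm) s χ) =
      dual (conjRes T R C.norm) s χ) : χ = 1 := by
  classical
  by_cases hb : ∀ s : T, resAut φ T C.Ti b s = s
  · cases nonempty_fintype (zpowers c)
    set DA : A →* MulAut (R →* M) := dual (resAut φ R C.Ri)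
    refine pow_eq_one_trivial C.coprime_card (pow_card_eq_one_of_fpf
      ((resAut φ T C.Ti).comp (zpowers c).subtype) (dual (conjRes T R C.norm))
      (DA.comp (zpowers c).subtype)
      (fun x s m => dual_compat R T C.Ri C.Ti C.norm (x : A) s m)
      (fun m hm => C.char_T_trivial m hm)
      (fun x hx => h.fpf_bijective C hb x.2 (fun h1 => hx (Subtype.ext h1))) fun s => ?_)
    refine h.char_fixed_trivial R C.Ri _ (h.pq.fixed_of_gen DA ?_ ?_)
    · rw [map_prod]
      refine Finset.prod_congr rfl fun x _ => ?_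
      have h1 : (x : A)⁻¹ * b * x ∈ zpowers b := by
        simpa using h.pq.normal.conj_mem b (mem_zpowers b) (x : A)⁻¹
      change DA b (DA x _) = DA x _
      rw [← aut_mul, show b * (x : A) = x * ((x : A)⁻¹ * b * x) by group, aut_mul, hχ _ h1 s]
    · exact prod_act_fixed (DA.comp (zpowers c).subtype) _ ⟨c, mem_zpowers c⟩
  · push Not at hb
    obtain ⟨t₀, ht₀⟩ := hb
    refine C.char_T_trivial χ fun s => comT_fix C (zpowers b) χ hχ s ?_
    rw [C.comT_top h.pq h.cop ht₀]
    exact mem_top s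

/-- a character all whose `T`-conjugates are fixed by `c` is trivial -/
theorem char_trivial_C [Finite A] [Finite H] (h : Setup b c p q φ ρ S) (C : Crit φ r t R T)
    {M : Type*} [CommGroup M] (χ : R →* M)
    (hχ : ∀ l ∈ zpowers c, ∀ s, dual (resAut φ R C.Ri) l (dual (conjRes T R C.norm) s χ) =
      dual (conjRes T R C.norm) s χ) : χ = 1 := by
  classical
  set φT := resAut φ T C.Ti
  have hfixU := comT_fix C (zpowers c) χ hχ
  by_cases hb : ∀ s : T, φT b s = s
  · refine C.char_T_trivial χ fun u => hfixU u ?_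
    have hc1 : c ≠ 1 := fun h1 => h.pq.not_mem (h1 ▸ one_mem _)
    obtain ⟨s, hs⟩ := (h.fpf_bijective C hb (mem_zpowers c) hc1).2 u
    exact hs ▸ mem_comT φT (mem_zpowers c) s
  · push Not at hb
    obtain ⟨t₀, ht₀⟩ := hb
    have htop := C.comT_top h.pq h.cop ht₀
    refine averaging h.pq φT (dual (conjRes T R C.norm)) (dual (resAut φ R C.Ri))
      (fun s u m => MonoidHom.ext fun x => congrArg m (C.comm_act u⁻¹ s⁻¹ x))
      (fun a s m => dual_compat R T C.Ri C.Ti C.norm a s m)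
      (fun m hm => h.char_fixed_trivial R C.Ri m hm)
      (fun m hm => C.char_T_trivial m hm) (comT φT (zpowers c)) ?_ ?_ hfixU ?_
    · intro a ha ha1 Kt hKt hKa
      let K' : Subgroup A :=
        { carrier := {l | ∀ x, x⁻¹ * φT l x ∈ Kt}
          one_mem' := fun x => by rw [aut_one, inv_mul_cancel]; exact one_mem _
          mul_mem' := fun {l m} hl hm x => by
            rw [aut_mul, show x⁻¹ * φT l (φT m x) =
              x⁻¹ * φT m x * ((φT m x)⁻¹ * φT l (φT m x)) by group]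
            exact mul_mem (hm x) (hl _)
          inv_mem' := fun {l} hl x => by
            have h1 := inv_mem (hl (φT l⁻¹ x))
            rwa [aut_apply_inv, mul_inv_rev, inv_inv] at h1 }
      have hK' : K' = ⊤ := by
        refine h.pq.eq_top_of_conj ha ha1 (fun x => hKt (mem_comT φT (mem_zpowers c) x)) fun x => ?_
        have h1 := hKa _ (mem_comT φT (mem_zpowers c) (φT a⁻¹ x))
        rw [map_mul, map_inv, aut_apply_inv] at h1
        rwa [aut_mul, aut_mul]
      rw [eq_top_iff, ← htop, comT, closure_le]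
      rintro _ ⟨l, -, x, rfl⟩
      exact (hK'.symm ▸ mem_top l : l ∈ K') x
    · simpa [aut_one] using hχ c (mem_zpowers c) 1
    · exact fun h1 =>
        pow_eq_one_trivial (C.coprime_card.coprime_dvd_left (Subgroup.card_subgroup_dvd_card _)) h1

/-- a character all whose `T`-conjugates are fixed by one nontrivial element is trivial -/
theorem char_trivial [Finite A] [Finite H] (h : Setup b c p q φ ρ S) (C : Crit φ r t R T)
    {M : Type*} [CommGroup M] {g : A} (hg : g ≠ 1) (χ : R →* M)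
    (hχ : ∀ s, dual (resAut φ R C.Ri) g (dual (conjRes T R C.norm) s χ) =
      dual (conjRes T R C.norm) s χ) : χ = 1 := by
  have hall : ∀ l ∈ zpowers g, ∀ s, dual (resAut φ R C.Ri) l (dual (conjRes T R C.norm) s χ) =
      dual (conjRes T R C.norm) s χ := fun l hl s => fixed_zpowers _ (hχ s) l hl
  by_cases hgb : g ∈ zpowers b
  · exact h.char_trivial_B C χ fun l hl => hall l ((h.pq.gen_of_mem hgb hg).symm ▸ hl)
  · exact (h.change hgb).char_trivial_C C χ hall

/-- `R` is not abelian -/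
theorem not_comm [Finite A] [Finite H] [IsAlgClosed K] [FiniteDimensional K U]
    (h : Setup b c p q φ ρ S) (C : Crit φ r t R T) (hrK : (r : K) ≠ 0) :
    ¬ ∀ x ∈ R, ∀ y ∈ R, x * y = y * x := by
  intro hab
  haveI := Fact.mk C.hr
  obtain ⟨n, hn⟩ := IsPGroup.iff_card.1 C.Rp
  have hcard : (Nat.card R : K) ≠ 0 := by rw [hn, Nat.cast_pow]; exact pow_ne_zero _ hrK
  apply C.ne
  by_cases htriv : ∀ x : R, ρ (x : H) = 1
  · intro s _ x hx
    have h1 : x = 1 := h.inj (by rw [map_one]; exact htriv ⟨x, hx⟩)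
    rw [h1, mul_one, one_mul]
  push Not at htriv
  obtain ⟨x₀, hx₀⟩ := htriv
  obtain ⟨χ, w, hw, hw0, hχ⟩ := exists_weight ρ R hab hcard hx₀
  exfalso
  have hχ1 : χ ≠ 1 := fun h1 => hχ (by rw [h1, MonoidHom.one_apply])
  obtain ⟨g, hg, hgs⟩ := h.one_type R T C.Ri C.Ti C.norm hcard hw hw0 hχ1
  exact hχ1 (h.char_trivial C hg χ hgs)

end Setup

end Cfsg.Agent.PQAct
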