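import Cfsg.Agent.FGS73.SGLinear

/-!
The exceptional case: `c` of order `q = 2 ^ k + 1` moves only a subgroup of order `2 ^ (2 * k)` of an
alternating module, and a commutative odd group is normalised by `c`.
-/

set_option autoImplicit false
set_option linter.style.haveILetI false
set_option linter.deprecated false
set_option linter.unusedSectionVars false

namespace Cfsg.Agent.PQAct

open Polynomial in
/-- a finite ring with an automorphism of prime order without invariant ideals has at least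
`|fixed points| ^ q` elements -/
theorem card_fixed_pow_le {R : Type*} [CommRing R] [Finite R] [Nontrivial R] (θ : R ≃+* R) {q : ℕ}
    (hq : q.Prime) (hθq : θ ^ q = 1) (hθ : θ ≠ 1)
    (hsimple : ∀ J : Ideal R, (∀ x ∈ J, θ x ∈ J) → J = ⊥ ∨ J = ⊤) :
    Nat.card {x : R // θ x = x} ^ q ≤ Nat.card R := by
  classical
  haveI := Fact.mk hq
  obtain ⟨m, hm⟩ := Ideal.exists_maximal R
  have hord : orderOf θ = q := orderOf_eq_prime hθq hθ
  have hfixz : ∀ σ ∈ Subgroup.zpowers θ, ∀ x, θ x = x → σ x = x := by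
    intro σ hσ x hx
    let St : Subgroup (R ≃+* R) :=
      { carrier := {σ | σ x = x}
        one_mem' := rfl
        mul_mem' := fun {s t} hs ht => by
          change s (t x) = x
          rw [ht, hs]
        inv_mem' := fun {s} hs => by
          change s.symm x = x
          rw [RingEquiv.symm_apply_eq]
          exact hs.symm }
    exact (Subgroup.zpowers_le.2 (show θ ∈ St from hx)) hσ
  by_cases hinv : ∀ x ∈ m, θ x ∈ m
  · have hbot : m = ⊥ := (hsimple m hinv).resolve_right hm.ne_top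
    subst hbot
    haveI : (⊥ : Ideal R).IsPrime := hm.isPrime
    haveI : IsDomain R := IsDomain.of_bot_isPrime R
    obtain ⟨g, hg⟩ : ∃ g, θ g ≠ g := by
      by_contra h
      push Not at h
      exact hθ (RingEquiv.ext h)
    rw [show Nat.card {x : R // θ x = x} ^ q = Nat.card (Fin q → {x : R // θ x = x}) by
      rw [Nat.card_fun, Nat.card_fin]]
    refine Nat.card_le_card_of_injective (fun f => ∑ i : Fin q, (f i : R) * g ^ (i : ℕ)) ?_
    intro f f' hff'
    simp only at hff'
    let P : R[X] := ∑ i : Fin q, C ((f i : R) - (f' i : R)) * X ^ (i : ℕ)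
    have horb : Function.Injective fun j : Fin q => (θ ^ (j : ℕ)) g := by
      intro i j hij
      by_contra hne
      apply hg
      wlog hlt : (i : ℕ) < j generalizing i j
      · exact this hij.symm (Ne.symm hne) (lt_of_le_of_ne (not_lt.1 hlt)
          (fun h => hne (Fin.ext h.symm)))
      have h1 : (θ ^ ((j : ℕ) - i)) g = g := by
        apply (θ ^ (i : ℕ)).injective
        simp only at hij
        rw [← RingAut.mul_apply, ← pow_add, Nat.add_sub_cancel' hlt.le]
        exact hij.symm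
      have h2 : (θ ^ ((j : ℕ) - i)).toEquiv ∈ MulAction.stabilizer (Equiv.Perm R) g := h1
      let St : Subgroup (R ≃+* R) :=
        { carrier := {σ | σ g = g}
          one_mem' := rfl
          mul_mem' := fun {s t} hs ht => by
            change s (t g) = g
            rw [ht, hs]
          inv_mem' := fun {s} hs => by
            change s.symm g = g
            rw [RingEquiv.symm_apply_eq]
            exact hs.symm }
      have hcop : ((j : ℕ) - i).Coprime (orderOf θ) := by
        rw [hord, Nat.coprime_comm]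
        refine hq.coprime_iff_not_dvd.2 fun hd => ?_
        have := Nat.le_of_dvd (by omega) hd
        have := j.2
        omega
      obtain ⟨k, hk⟩ := exists_pow_eq_self_of_coprime hcop
      have h3 : θ ^ ((j : ℕ) - i) ∈ St := h1
      have h4 : θ ∈ St := hk ▸ pow_mem h3 k
      exact h4
    have hroots : ∀ j : Fin q, P.eval ((θ ^ (j : ℕ)) g) = 0 := by
      intro j
      have h0 : ∑ i : Fin q, ((f i : R) - (f' i : R)) * g ^ (i : ℕ) = 0 := by
        simp only [sub_mul, Finset.sum_sub_distrib, hff', sub_self]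
      have h1 := congrArg (θ ^ (j : ℕ)) h0
      rw [map_sum, map_zero] at h1
      simp only [P, eval_finsetSum, eval_mul, eval_C, eval_pow, eval_X]
      refine Eq.trans (Finset.sum_congr rfl fun i _ => ?_) h1
      rw [map_mul, map_pow, map_sub,
        hfixz _ (pow_mem (Subgroup.mem_zpowers θ) _) _ (f i).2,
        hfixz _ (pow_mem (Subgroup.mem_zpowers θ) _) _ (f' i).2]
    have hP : P = 0 := by
      refine eq_zero_of_natDegree_lt_card_of_eval_eq_zero P horb hroots ?_
      rw [Fintype.card_fin]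
      rcases eq_or_ne P 0 with h | h
      · rw [h, natDegree_zero]; exact hq.pos
      · rw [natDegree_lt_iff_degree_lt h]
        exact degree_sum_fin_lt _
    funext i
    apply Subtype.ext
    have h1 : P.coeff (i : ℕ) = (f i : R) - (f' i : R) := by
      simp only [P, finsetSum_coeff, coeff_C_mul_X_pow]
      rw [Finset.sum_eq_single i (fun b _ hb => if_neg fun h => hb (Fin.ext h.symm))
        (fun h => absurd (Finset.mem_univ i) h), if_pos rfl]
    rw [hP, coeff_zero] at h1
    exact sub_eq_zero.1 h1.symm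
  · let G := Subgroup.zpowers θ
    cases nonempty_fintype R
    haveI : Finite (R ≃+* R) := Finite.of_injective _ DFunLike.coe_injective
    cases nonempty_fintype G
    let I : G → Ideal R := fun σ => Ideal.comap (σ : R ≃+* R).toRingHom m
    have hImax : ∀ σ, (I σ).IsMaximal := fun σ =>
      Ideal.comap_isMaximal_of_surjective _ (σ : R ≃+* R).surjective
    have hIne : ∀ σ τ, I σ = I τ → σ = τ := by
      intro σ τ hστ
      by_contra hne
      apply hinv
      let St : Subgroup (R ≃+* R) :=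
        { carrier := {s | ∀ x, s x ∈ m ↔ x ∈ m}
          one_mem' := fun x => Iff.rfl
          mul_mem' := fun {s t} hs ht x => (hs (t x)).trans (ht x)
          inv_mem' := fun {s} hs x => by
            have h1 := hs (s.symm x)
            rw [RingEquiv.apply_symm_apply] at h1
            exact h1.symm }
      have hd : ((σ : R ≃+* R) * (τ : R ≃+* R)⁻¹) ∈ St := by
        intro x
        have h1 := SetLike.ext_iff.1 hστ ((τ : R ≃+* R)⁻¹ x)
        simp only [I, Ideal.mem_comap] at h1
        change (σ : R ≃+* R) ((τ : R ≃+* R)⁻¹ x) ∈ m ↔ x ∈ m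
        refine h1.trans ?_
        change (τ : R ≃+* R) ((τ : R ≃+* R).symm x) ∈ m ↔ x ∈ m
        rw [RingEquiv.apply_symm_apply]
      have hdG : ((σ : R ≃+* R) * (τ : R ≃+* R)⁻¹) ∈ G := G.mul_mem σ.2 (G.inv_mem τ.2)
      have hd1 : ((σ : R ≃+* R) * (τ : R ≃+* R)⁻¹) ≠ 1 := fun h =>
        hne (Subtype.ext (mul_inv_eq_one.1 h))
      haveI : Fact (Nat.card G).Prime := ⟨by rw [Nat.card_zpowers, hord]; exact hq⟩
      have h3 : θ ∈ St := by
        have h4 : (⟨θ, Subgroup.mem_zpowers θ⟩ : G) ∈ Subgroup.zpowers (⟨_, hdG⟩ : G) := by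
          rw [zpowers_eq_top_of_prime_card rfl (fun h => hd1 (congrArg Subtype.val h))]
          exact Subgroup.mem_top _
        obtain ⟨i, hi⟩ := h4
        have h5 := congrArg Subtype.val hi
        simp only [SubgroupClass.coe_zpow] at h5
        exact h5 ▸ zpow_mem hd i
      exact fun x hx => (h3 x).2 hx
    have hinf : ⨅ σ, I σ = ⊥ := by
      refine (hsimple _ fun x hx => ?_).resolve_right fun h => (hImax 1).ne_top
        (top_le_iff.1 (h.symm.le.trans (iInf_le I 1)))
      rw [Ideal.mem_iInf] at hx ⊢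
      intro σ
      let θG : G := ⟨θ, Subgroup.mem_zpowers θ⟩
      have h1 := hx (σ * θG)
      simp only [I, Ideal.mem_comap, RingEquiv.toRingHom_eq_coe, RingEquiv.coe_toRingHom,
        Subgroup.coe_mul, RingAut.mul_apply] at h1 ⊢
      exact h1
    have hcop : Pairwise fun σ τ => IsCoprime (I σ) (I τ) := fun σ τ hne => by
      exact Ideal.isCoprime_iff_sup_eq.2
        ((hImax σ).coprime_of_ne (hImax τ) fun h => hne (hIne σ τ h))
    have hinj : Function.Bijective (Ideal.Quotient.mk (⨅ σ, I σ)) := by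
      refine ⟨fun x y hxy => ?_, Ideal.Quotient.mk_surjective⟩
      have h1 := Ideal.Quotient.eq.1 hxy
      rw [hinf, Ideal.mem_bot] at h1
      exact sub_eq_zero.1 h1
    have hcard : Nat.card R = ∏ σ, Nat.card (R ⧸ I σ) :=
      (Nat.card_eq_of_bijective _ hinj).trans
        ((Nat.card_congr (Ideal.quotientInfRingEquivPiQuotient I hcop).toEquiv).trans Nat.card_pi)
    rw [hcard]
    have hGq : Fintype.card G = q := by rw [← Nat.card_eq_fintype_card, Nat.card_zpowers, hord]
    conv_lhs => rw [← hGq, ← Finset.card_univ, ← Finset.prod_const]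
    refine Finset.prod_le_prod' fun σ _ => ?_
    refine Nat.card_le_card_of_injective (fun x => Ideal.Quotient.mk (I σ) x.1) fun x y hxy => ?_
    have h1 : (x.1 - y.1) ∈ I σ := Ideal.Quotient.eq.1 hxy
    have hfix : ∀ τ : G, (τ : R ≃+* R) (x.1 - y.1) = x.1 - y.1 := fun τ => by
      rw [map_sub, hfixz _ τ.2 _ x.2, hfixz _ τ.2 _ y.2]
    have h2 : (x.1 - y.1) ∈ ⨅ τ, I τ := by
      rw [Ideal.mem_iInf]
      intro τ
      simp only [I, Ideal.mem_comap] at h1 ⊢
      change (σ : R ≃+* R) _ ∈ m at h1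
      change (τ : R ≃+* R) _ ∈ m
      rw [hfix] at h1 ⊢
      exact h1
    rw [hinf, Ideal.mem_bot] at h2
    exact Subtype.ext (sub_eq_zero.1 h2)


open AddSubgroup in
/-- data of the exceptional case -/
structure ExcData {M T N : Type*} [AddCommGroup M] [Group T] [CommGroup N]
    (P : T →* AddMonoid.End M) (σ : T →* T) (cM : AddMonoid.End M) (q k : ℕ) (β : M → M → N) :
    Prop where
  two : ∀ m : M, m + m = 0
  hq : q.Prime
  hqk : q = 2 ^ k + 1
  hk : 1 ≤ k
  comm : ∀ s t, P s * P t = P t * P s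
  per : ∀ t, (⇑σ)^[q] t = t
  cq : cM ^ q = 1
  compat : ∀ t, cM * P t = P (σ t) * cM
  odd : ¬ 2 ∣ Nat.card T
  cop : (Nat.card T).Coprime q
  card_range : Nat.card (Set.range fun m => cM m - m) = 2 ^ (2 * k)
  add_left : ∀ x y z, β (x + y) z = β x z * β y z
  add_right : ∀ x y z, β x (y + z) = β x y * β x z
  alt : ∀ x, β x x = 1
  nondeg : ∀ x, (∀ y, β x y = 1) → x = 0
  inv_c : ∀ x y, β (cM x) (cM y) = β x y
  inv_P : ∀ t x y, β (P t x) (P t y) = β x y
  fixU : ∀ m, cM m = m → (∀ t, P (t⁻¹ * σ t) m = m) → m = 0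
  fixT : ∀ m, (∀ t, P t m = m) → m = 0

namespace ExcData

variable {M T N : Type*} [AddCommGroup M] [Finite M] [Group T] [Finite T] [CommGroup N]
  {P : T →* AddMonoid.End M} {σ : T →* T} {cM : AddMonoid.End M} {q k : ℕ} {β : M → M → N}

theorem P_mul (s t : T) (x : M) : P (s * t) x = P s (P t x) := by rw [map_mul]; rfl

theorem P_one (x : M) : P 1 x = x := by rw [map_one]; rfl

theorem P_inv_self (t : T) (x : M) : P t⁻¹ (P t x) = x := by rw [← P_mul, inv_mul_cancel, P_one]

theorem P_swap (D : ExcData P σ cM q k β) (s t : T) (x : M) : P s (P t x) = P t (P s x) :=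
  DFunLike.congr_fun (D.comm s t) x

theorem c_P (D : ExcData P σ cM q k β) (t : T) (x : M) : cM (P t x) = P (σ t) (cM x) :=
  DFunLike.congr_fun (D.compat t) x

theorem neg_self (D : ExcData P σ cM q k β) (x : M) : -x = x :=
  neg_eq_of_add_eq_zero_left (D.two x)

theorem odd_smul (D : ExcData P σ cM q k β) {n : ℕ} (hn : ¬ 2 ∣ n) (x : M) : n • x = x := by
  obtain ⟨i, rfl⟩ := Nat.odd_iff.2 (by omega : n % 2 = 1)
  rw [add_smul, one_smul, mul_smul, two_nsmul, D.two, zero_add]

theorem q_odd (D : ExcData P σ cM q k β) : ¬ 2 ∣ q := by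
  rw [D.hqk]
  have h1 : 2 ∣ 2 ^ k := dvd_pow_self 2 (by have := D.hk; omega)
  omega

theorem c_pow_apply (i : ℕ) (x : M) : (cM ^ i) x = (⇑cM)^[i] x := by
  induction i with
  | zero => rfl
  | succ i ih =>
    rw [pow_succ', Function.iterate_succ_apply', ← ih]
    rfl

/-- the subgroup generated by the `t⁻¹ * σ t` -/
def U (σ : T →* T) : Subgroup T := Subgroup.closure (Set.range fun t => t⁻¹ * σ t)

theorem gen_mem (t : T) : t⁻¹ * σ t ∈ U σ := Subgroup.subset_closure ⟨t, rfl⟩

theorem σ_mem {u : T} (hu : u ∈ U σ) : σ u ∈ U σ := by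
  have h1 := mul_mem hu (gen_mem (σ := σ) u)
  rwa [mul_inv_cancel_left] at h1

/-- `u * σ u * ⋯` -/
def Nm (σ : T →* T) : ℕ → T → T
  | 0, _ => 1
  | n + 1, u => u * σ (Nm σ n u)

theorem P_Nm_mul (D : ExcData P σ cM q k β) (n : ℕ) (u v : T) :
    P (Nm σ n (u * v)) = P (Nm σ n u) * P (Nm σ n v) := by
  suffices h : ∀ m, P ((⇑σ)^[m] (Nm σ n (u * v))) = P ((⇑σ)^[m] (Nm σ n u)) * P ((⇑σ)^[m] (Nm σ n v))
    from h 0
  induction n with
  | zero => intro m; simp [Nm, iterate_map_one]
  | succ n ih =>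
    intro m
    simp only [Nm, iterate_map_mul, map_mul, ← Function.iterate_succ_apply, ih (m + 1)]
    simp only [mul_assoc]
    congr 1
    rw [← mul_assoc, D.comm ((⇑σ)^[m] v), mul_assoc]

theorem P_Nm_U (D : ExcData P σ cM q k β) {u : T} (hu : u ∈ U σ) : P (Nm σ q u) = 1 := by
  refine Subgroup.closure_induction ?_ ?_ ?_ ?_ hu
  · rintro _ ⟨t, rfl⟩
    have h1 : ∀ n, Nm σ n (t⁻¹ * σ t) = t⁻¹ * (⇑σ)^[n] t := by
      intro n
      induction n with
      | zero => simp [Nm]
      | succ n ih =>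
        rw [Nm, ih, map_mul, map_inv, Function.iterate_succ_apply']
        group
    rw [h1, D.per, inv_mul_cancel, map_one]
  · have h1 : ∀ n, Nm σ n (1 : T) = 1 := by
      intro n
      induction n with
      | zero => rfl
      | succ n ih => rw [Nm, ih, map_one, one_mul]
    rw [h1, map_one]
  · intro x y _ _ hx hy
    rw [D.P_Nm_mul, hx, hy, one_mul]
  · intro x _ hx
    have h1 := D.P_Nm_mul q x x⁻¹
    rw [hx, one_mul, mul_inv_cancel] at h1
    rw [← h1]
    have h2 : ∀ n, Nm σ n (1 : T) = 1 := by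
      intro n
      induction n with
      | zero => rfl
      | succ n ih => rw [Nm, ih, map_one, one_mul]
    rw [h2, map_one]

/-- if `σ` acts trivially modulo `L` then so does `U` -/
theorem U_trivial_mod (D : ExcData P σ cM q k β) (L : AddSubgroup M)
    (hL : ∀ u ∈ U σ, ∀ y ∈ L, P u y ∈ L) (x : M)
    (h : ∀ u ∈ U σ, ∀ v ∈ U σ, P (σ u) (P v x) - P u (P v x) ∈ L) :
    ∀ u ∈ U σ, P u x - x ∈ L := by
  intro u hu
  have hσu : ∀ m, (⇑σ)^[m] u ∈ U σ := by
    intro m
    induction m with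
    | zero => exact hu
    | succ m ih => rw [Function.iterate_succ_apply']; exact σ_mem ih
  have hNm : ∀ n, Nm σ n u ∈ U σ := by
    intro n
    induction n with
    | zero => exact one_mem _
    | succ n ih => exact mul_mem hu (σ_mem ih)
  have hn : ∀ n, P (Nm σ n u) x - P (u ^ n) x ∈ L := by
    intro n
    induction n with
    | zero => simp [Nm]
    | succ n ih =>
      have h1 := h _ (hNm n) 1 (one_mem _)
      rw [P_one] at h1
      have h2 := hL u hu _ (L.add_mem h1 ih)
      rw [sub_add_sub_cancel, map_sub, ← P_mul, ← P_mul, ← pow_succ'] at h2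
      exact h2
  have h1 := hn q
  rw [D.P_Nm_U hu] at h1
  let St : Subgroup T :=
    { carrier := {s | s ∈ U σ ∧ P s x - x ∈ L}
      one_mem' := ⟨one_mem _, by rw [P_one, sub_self]; exact L.zero_mem⟩
      mul_mem' := fun {a b} ha hb => ⟨mul_mem ha.1 hb.1, by
        have h2 := L.add_mem (hL a ha.1 _ hb.2) ha.2
        rwa [map_sub, sub_add_sub_cancel, ← P_mul] at h2⟩
      inv_mem' := fun {a} ha => ⟨inv_mem ha.1, by
        have h2 := L.neg_mem (hL a⁻¹ (inv_mem ha.1) _ ha.2)
        rwa [map_sub, neg_sub, P_inv_self] at h2⟩ }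
  have hq' : u ^ q ∈ St := ⟨pow_mem hu q, by
    have h2 := L.neg_mem h1
    rwa [neg_sub] at h2⟩
  obtain ⟨j, hj⟩ := exists_pow_eq_self_of_coprime (x := u) (n := q)
    ((D.cop.coprime_dvd_left (orderOf_dvd_natCard u)).symm)
  exact (hj ▸ pow_mem hq' j : u ∈ St).2

/-- averaging: without fixed points in an invariant subgroup, commutators act trivially -/
theorem gen_trivial_of_fpf (D : ExcData P σ cM q k β) {E : Subgroup T}
    (hE : ∀ a ∈ E, σ a ∈ E) (J : AddSubgroup M) (hJc : ∀ x ∈ J, cM x ∈ J)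
    (hJE : ∀ a ∈ E, ∀ x ∈ J, P a x ∈ J) (hJ : ∀ x ∈ J, cM x = x → x = 0) :
    ∀ b ∈ E, ∀ x ∈ J, P (b⁻¹ * σ b) x = x := by
  classical
  cases nonempty_fintype E
  intro b hb x hx
  have hq0 : 0 < q := D.hq.pos
  have hJit : ∀ i, ∀ y ∈ J, (⇑cM)^[i] y ∈ J := by
    intro i
    induction i with
    | zero => exact fun y hy => hy
    | succ i ih => intro y hy; rw [Function.iterate_succ_apply']; exact hJc _ (ih y hy)
  have hsum : ∀ y ∈ J, ∑ i ∈ Finset.range q, (⇑cM)^[i] y = 0 := by
    intro y hy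
    apply hJ _ (J.sum_mem fun i _ => ?_)
    · rw [map_sum]
      simp only [← Function.iterate_succ_apply' (⇑cM)]
      have h1 := Finset.sum_range_succ' (fun i => (⇑cM)^[i] y) q
      have h2 := Finset.sum_range_succ (fun i => (⇑cM)^[i] y) q
      rw [h1, show (⇑cM)^[q] y = (⇑cM)^[0] y by rw [← c_pow_apply, D.cq]; rfl] at h2
      exact add_right_cancel h2
    · exact hJit i y hy
  have hit : ∀ i a y, (⇑cM)^[i] (P a y) = P ((⇑σ)^[i] a) ((⇑cM)^[i] y) := by
    intro i
    induction i with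
    | zero => intro a y; rfl
    | succ i ih =>
      intro a y
      rw [Function.iterate_succ_apply', ih, D.c_P, ← Function.iterate_succ_apply' (⇑σ),
        ← Function.iterate_succ_apply' (⇑cM)]
  let V : ℕ → M := fun i => ∑ a : E, P ((a : T)⁻¹ * (⇑σ)^[i] (a : T)) ((⇑cM)^[i] x)
  have hVfix : ∀ i, P (b⁻¹ * (⇑σ)^[i] b) (V i) = V i := by
    intro i
    simp only [V, map_sum]
    refine (Finset.sum_congr rfl fun a _ => ?_).trans
      (Equiv.sum_comp (Equiv.mulRight (⟨b, hb⟩ : E))
        (fun a : E => P ((a : T)⁻¹ * (⇑σ)^[i] (a : T)) ((⇑cM)^[i] x)))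
    simp only [Equiv.coe_mulRight, Subgroup.coe_mul, iterate_map_mul, mul_inv_rev, P_mul]
    rw [D.P_swap ((⇑σ)^[i] b), D.P_swap ((⇑σ)^[i] b)]
  -- passing from `i` to `1`
  have hto1 : ∀ i, 0 < i → i < q → ∀ y, (∀ e ∈ E, P (e⁻¹ * (⇑σ)^[i] e) y = y) →
      P (b⁻¹ * σ b) y = y := by
    intro i hi hiq y hy
    have hEi : ∀ n, ∀ e ∈ E, (⇑σ)^[n] e ∈ E := by
      intro n
      induction n with
      | zero => exact fun e he => he
      | succ n ih => intro e he; rw [Function.iterate_succ_apply']; exact hE _ (ih e he)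
    have hmul : ∀ j, ∀ e ∈ E, P (e⁻¹ * (⇑σ)^[i * j] e) y = y := by
      intro j
      induction j with
      | zero => intro e _; simp [P_one]
      | succ j ih =>
        intro e he
        rw [Nat.mul_succ, Function.iterate_add_apply,
          show e⁻¹ * (⇑σ)^[i * j] ((⇑σ)^[i] e) = (e⁻¹ * (⇑σ)^[i] e) *
            (((⇑σ)^[i] e)⁻¹ * (⇑σ)^[i * j] ((⇑σ)^[i] e)) by group,
          P_mul, ih _ (hEi i e he), hy e he]
    obtain ⟨j, -, hj⟩ := Nat.exists_mul_mod_eq_one_of_coprime (n := i) (k := q)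
      (Nat.Coprime.symm (D.hq.coprime_iff_not_dvd.2 fun hd => by
        have := Nat.le_of_dvd hi hd; omega)) D.hq.one_lt
    have h1 := hmul j b hb
    rw [← Nat.mod_add_div (i * j) q, hj, Function.iterate_add_apply,
      Function.IsPeriodicPt.mul_const (D.per b) _] at h1
    exact h1
  have hV : ∀ i, i ∈ (Finset.range q).erase 0 → P (b⁻¹ * σ b) (V i) = V i := by
    intro i hi
    obtain ⟨hi0, hiq⟩ := Finset.mem_erase.1 hi
    refine hto1 i (Nat.pos_of_ne_zero hi0) (Finset.mem_range.1 hiq) _ fun e he => ?_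
    simp only [V, map_sum]
    refine (Finset.sum_congr rfl fun a _ => ?_).trans
      (Equiv.sum_comp (Equiv.mulRight (⟨e, he⟩ : E))
        (fun a : E => P ((a : T)⁻¹ * (⇑σ)^[i] (a : T)) ((⇑cM)^[i] x)))
    simp only [Equiv.coe_mulRight, Subgroup.coe_mul, iterate_map_mul, mul_inv_rev, P_mul]
    rw [D.P_swap ((⇑σ)^[i] e), D.P_swap ((⇑σ)^[i] e)]
  have h0 : x + ∑ i ∈ (Finset.range q).erase 0, V i = 0 := by
    have h1 : ∑ i ∈ Finset.range q, V i = 0 := by
      simp only [V]
      rw [Finset.sum_comm]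
      refine Finset.sum_eq_zero fun a _ => ?_
      simp only [P_mul, ← hit]
      rw [← map_sum, hsum _ (hJE _ a.2 x hx), map_zero]
    rw [← Finset.add_sum_erase _ _ (Finset.mem_range.2 hq0)] at h1
    refine Eq.trans ?_ h1
    congr 1
    simp only [V, Function.iterate_zero_apply, inv_mul_cancel, P_one, Finset.sum_const,
      Finset.card_univ, ← Nat.card_eq_fintype_card]
    exact (D.odd_smul (fun hd => D.odd (hd.trans E.card_subgroup_dvd_card)) x).symm
  have h1 := congrArg (P (b⁻¹ * σ b)) h0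
  rw [map_zero, map_add, map_sum, Finset.sum_congr rfl hV, ← h0] at h1
  exact add_right_cancel h1

theorem U_trivial_of_fpf (D : ExcData P σ cM q k β) (J : AddSubgroup M)
    (hJc : ∀ x ∈ J, cM x ∈ J) (hJU : ∀ a ∈ U σ, ∀ x ∈ J, P a x ∈ J)
    (hJ : ∀ x ∈ J, cM x = x → x = 0) : ∀ u ∈ U σ, ∀ x ∈ J, P u x = x := by
  intro u hu x hx
  refine sub_eq_zero.1 (AddSubgroup.mem_bot.1 (D.U_trivial_mod ⊥ (fun v _ y hy => ?_) x
    (fun v hv v' hv' => ?_) u hu))
  · rw [AddSubgroup.mem_bot] at hy ⊢
    rw [hy, map_zero]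
  · have h1 := D.gen_trivial_of_fpf (fun a ha => σ_mem ha) J hJc hJU hJ v hv _ (hJU v' hv' x hx)
    rw [P_mul] at h1
    rw [AddSubgroup.mem_bot, sub_eq_zero]
    calc P (σ v) (P v' x) = P v (P v⁻¹ (P (σ v) (P v' x))) := by
          rw [← P_mul v v⁻¹, mul_inv_cancel, P_one]
      _ = _ := by rw [h1]

theorem fix_of_c_fix (D : ExcData P σ cM q k β) {v : M} (hv : cM v = v)
    (h : ∀ u ∈ U σ, P (σ u) v = P u v) : v = 0 := by
  refine D.fixU v hv fun t => sub_eq_zero.1 (AddSubgroup.mem_bot.1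
    (D.U_trivial_mod ⊥ (fun u _ y hy => ?_) v (fun u hu w _ => ?_) _ (gen_mem t)))
  · rw [AddSubgroup.mem_bot] at hy ⊢
    rw [hy, map_zero]
  · rw [AddSubgroup.mem_bot, sub_eq_zero, D.P_swap, h u hu, D.P_swap]

/-- `m ↦ cM m - m` -/
def diffHom (cM : AddMonoid.End M) : M →+ M :=
  AddMonoidHom.mk' (fun m => cM m - m) fun a b => by rw [map_add]; abel

/-- the moved part -/
def moved (cM : AddMonoid.End M) : AddSubgroup M := (diffHom cM).range

theorem mem_moved {y : M} : y ∈ moved cM ↔ ∃ m, cM m - m = y := Iff.rfl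

theorem moved_fix (D : ExcData P σ cM q k β) {y : M} (hy : y ∈ moved cM) (hc : cM y = y) :
    y = 0 := by
  obtain ⟨m, hm⟩ := mem_moved.1 hy
  have hit : ∀ i : ℕ, (⇑cM)^[i] m = m + i • y := by
    intro i
    induction i with
    | zero => simp
    | succ i ih =>
      rw [Function.iterate_succ_apply', ih, map_add, map_nsmul, hc, succ_nsmul', ← hm]
      abel
  have h1 := hit q
  rw [← c_pow_apply, D.cq, D.odd_smul D.q_odd, AddMonoid.End.coe_one, id, left_eq_add] at h1
  exact h1

theorem moved_irred (D : ExcData P σ cM q k β) (J : AddSubgroup M) (hJ : J ≤ moved cM)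
    (hJc : ∀ x ∈ J, cM x ∈ J) : J = ⊥ ∨ J = moved cM := by
  classical
  haveI := Fact.mk D.hq
  haveI : Fact (Nat.Prime 2) := ⟨Nat.prime_two⟩
  by_cases hbot : J = ⊥
  · exact Or.inl hbot
  refine Or.inr (AddSubgroup.eq_of_le_of_card_ge hJ ?_)
  have hrange : Nat.card (moved cM) = 2 ^ (2 * k) := D.card_range
  rw [hrange]
  obtain ⟨d, hd⟩ := (IsPGroup.iff_card (p := 2) (G := Multiplicative J)).1
    (fun x => ⟨1, Multiplicative.toAdd.injective (Subtype.ext (by
      simp only [pow_one, toAdd_pow, toAdd_one, AddSubgroup.coe_zero, AddSubgroup.coe_nsmul]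
      rw [two_nsmul, D.two]))⟩)
  replace hd : Nat.card J = 2 ^ d := hd
  let cJ : J →+ J := ((cM : M →+ M).comp J.subtype).codRestrict J fun x => hJc x x.2
  let σJ : Multiplicative J →* Multiplicative J := AddMonoidHom.toMultiplicative cJ
  have hσ : ∀ (i : ℕ) (x : Multiplicative J),
      (((⇑σJ)^[i] x).toAdd : M) = (⇑cM)^[i] (x.toAdd : M) := by
    intro i x
    induction i with
    | zero => rfl
    | succ i ih => rw [Function.iterate_succ_apply', Function.iterate_succ_apply', ← ih]; rfl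
  have hper : ∀ x, (⇑σJ)^[q] x = x := fun x => Multiplicative.toAdd.injective (Subtype.ext (by
    rw [hσ, ← c_pow_apply, D.cq]; rfl))
  have hfpf : ∀ x, σJ x = x → x = 1 := fun x hx => Multiplicative.toAdd.injective (Subtype.ext
    (D.moved_fix (hJ x.toAdd.2) (congrArg (fun z : Multiplicative J => (z.toAdd : M)) hx)))
  haveI : NeZero q := ⟨D.hq.ne_zero⟩
  have hdvd := FGS73.orbit_count σJ ⊥ (fun z hz => by rw [Subgroup.mem_bot] at hz ⊢; rw [hz, map_one])
    hper (fun v i hi hiq hv => by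
      rw [Subgroup.mem_bot, inv_mul_eq_one] at hv
      rw [Subgroup.mem_bot]
      exact FGS73.iterate_fpf σJ D.hq hper hfpf hi.ne' hiq v hv.symm)
  rw [Subgroup.index_bot, show Nat.card (Multiplicative J) = 2 ^ d from hd] at hdvd
  have hd0 : d ≠ 0 := by
    rintro rfl
    exact hbot (AddSubgroup.eq_bot_of_card_eq J (by rw [hd, pow_zero]))
  have h2k : 2 * k ∣ d := by
    have h1 := FGS73.order_two (p := q) (k := k) (m := 1) (j := 0) (D := d) D.hq
      (fun h => D.q_odd (h ▸ dvd_rfl)) D.hk le_rfl (by rw [pow_one, D.hqk]) (by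
        rw [add_zero, pow_one]
        have h2 : ((q : ℤ)) ∣ ((2 ^ d - 1 : ℕ) : ℤ) := Int.natCast_dvd_natCast.2 hdvd
        rw [Nat.cast_sub Nat.one_le_two_pow] at h2
        simpa using h2)
    simpa using h1
  rw [hd]
  exact Nat.pow_le_pow_right two_pos (Nat.le_of_dvd (Nat.pos_of_ne_zero hd0) h2k)

theorem decomp (D : ExcData P σ cM q k β) (x : M) :
    ∃ x0 e, cM x0 = x0 ∧ e ∈ moved cM ∧ x = x0 + e := by
  refine ⟨∑ i ∈ Finset.range q, (⇑cM)^[i] x, x - ∑ i ∈ Finset.range q, (⇑cM)^[i] x, ?_, ?_, by abel⟩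
  · rw [map_sum]
    simp only [← Function.iterate_succ_apply' (⇑cM)]
    have h1 := Finset.sum_range_succ' (fun i => (⇑cM)^[i] x) q
    have h2 := Finset.sum_range_succ (fun i => (⇑cM)^[i] x) q
    rw [h1, show (⇑cM)^[q] x = (⇑cM)^[0] x by rw [← c_pow_apply, D.cq]; rfl] at h2
    exact add_right_cancel h2
  · have hmem : ∀ i, x - (⇑cM)^[i] x ∈ moved cM := by
      intro i
      induction i with
      | zero => rw [Function.iterate_zero_apply, sub_self]; exact zero_mem _
      | succ i ih =>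
        have h1 : -(cM ((⇑cM)^[i] x) - (⇑cM)^[i] x) ∈ moved cM := neg_mem ⟨_, rfl⟩
        have h2 := add_mem ih h1
        rwa [neg_sub, sub_add_sub_cancel, ← Function.iterate_succ_apply' (⇑cM)] at h2
    have h1 := AddSubgroup.sum_mem (moved cM) (t := Finset.range q) fun i _ => hmem i
    rwa [Finset.sum_sub_distrib, Finset.sum_const, Finset.card_range, D.odd_smul D.q_odd] at h1

theorem no_U_fixed (D : ExcData P σ cM q k β) {v : M} (hv : cM v = v) (hv0 : v ≠ 0) {x : M}
    (hx : ∀ u ∈ U σ, P u x = x) : x = 0 := by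
  let F : AddSubgroup M :=
    { carrier := {m | ∀ u ∈ U σ, P u m = m}
      zero_mem' := fun u _ => map_zero _
      add_mem' := fun {a b} ha hb u hu => by rw [map_add, ha u hu, hb u hu]
      neg_mem' := fun {a} ha u hu => by rw [map_neg, ha u hu] }
  have hFc : ∀ m ∈ F, cM m ∈ F := by
    intro m hm
    let F' : Subgroup T :=
      { carrier := {u | P u (cM m) = cM m}
        one_mem' := P_one _
        mul_mem' := fun {a b} ha hb => by
          change P (a * b) (cM m) = cM m
          rw [P_mul, hb, ha]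
        inv_mem' := fun {a} ha => by
          change P a⁻¹ (cM m) = cM m
          conv_lhs => rw [← (ha : P a (cM m) = cM m)]
          rw [P_inv_self] }
    suffices h : U σ ≤ F' from fun u hu => h hu
    rw [U, Subgroup.closure_le]
    rintro _ ⟨t, rfl⟩
    obtain ⟨s, hs⟩ : ∃ s, σ s = t := ⟨(⇑σ)^[q - 1] t, by
      rw [← Function.iterate_succ_apply' (⇑σ), show (q - 1).succ = q by
        have := D.hq.pos; omega, D.per]⟩
    change P (t⁻¹ * σ t) (cM m) = cM m
    rw [← hs, ← map_inv, ← map_mul, ← D.c_P, hm _ (gen_mem s)]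
  have hmove : ∀ m ∈ F, cM m - m ∈ F ⊓ moved cM := fun m hm =>
    ⟨F.sub_mem (hFc m hm) hm, m, rfl⟩
  rcases D.moved_irred (F ⊓ moved cM) inf_le_right (fun y hy => ⟨hFc y hy.1, by
    obtain ⟨m, hm⟩ := mem_moved.1 hy.2
    exact ⟨cM m, by
      change cM (cM m) - cM m = cM y
      rw [← map_sub, hm]⟩⟩) with h | h
  · have h1 := hmove x hx
    rw [h, AddSubgroup.mem_bot, sub_eq_zero] at h1
    exact D.fixU x h1 fun t => hx _ (gen_mem t)
  · exfalso
    apply hv0
    have hE : ∀ y ∈ moved cM, ∀ u ∈ U σ, P u y = y := fun y hy => (h.symm ▸ hy : y ∈ F ⊓ moved cM).1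
    let d : T → M := fun u => P (σ u) v - P u v
    have hd : ∀ u, d u ∈ moved cM := fun u => ⟨P u v, by
      change cM (P u v) - P u v = _
      rw [D.c_P, hv]⟩
    have hhom : ∀ u ∈ U σ, ∀ w ∈ U σ, d (u * w) = d u + d w := by
      intro u hu w hw
      have h1 : P (σ w) v = P w v + d w := by simp only [d, add_sub_cancel]
      have h2 : P (σ u) v = P u v + d u := by simp only [d, add_sub_cancel]
      simp only [d] at *
      rw [map_mul, P_mul, P_mul, h1, map_add, hE _ (hd w) _ (σ_mem hu), D.P_swap, h2, map_add,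
        hE _ (hd u) _ hw, D.P_swap w u]
      abel
    refine D.fix_of_c_fix hv fun u hu => sub_eq_zero.1 ?_
    have hpow : ∀ n : ℕ, d (u ^ n) = n • d u := by
      intro n
      induction n with
      | zero => simp [d]
      | succ n ih => rw [pow_succ, hhom _ (pow_mem hu n) _ hu, ih, succ_nsmul]
    have h3 := hpow (Nat.card T)
    rw [pow_card_eq_one', D.odd_smul D.odd] at h3
    exact h3.symm.trans (by simp [d])

theorem orbit_span_top (D : ExcData P σ cM q k β) {v : M} (hv : cM v = v) (hv0 : v ≠ 0) :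
    AddSubgroup.closure ((fun u => P u v) '' (U σ : Set T)) = ⊤ := by
  classical
  set L := AddSubgroup.closure ((fun u => P u v) '' (U σ : Set T)) with hL
  have hgen : ∀ u ∈ U σ, P u v ∈ L := fun u hu => AddSubgroup.subset_closure ⟨u, hu, rfl⟩
  have hLU : ∀ w ∈ U σ, ∀ y ∈ L, P w y ∈ L := by
    intro w hw y hy
    refine (show L ≤ L.comap (P w : M →+ M) from ?_) hy
    rw [hL, AddSubgroup.closure_le]
    rintro _ ⟨u, hu, rfl⟩
    change P w (P u v) ∈ L
    rw [← P_mul]
    exact hgen _ (mul_mem hw hu)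
  have hLc : ∀ y ∈ L, cM y ∈ L := by
    intro y hy
    refine (show L ≤ L.comap (cM : M →+ M) from ?_) hy
    rw [hL, AddSubgroup.closure_le]
    rintro _ ⟨u, hu, rfl⟩
    change cM (P u v) ∈ L
    rw [D.c_P, hv]
    exact hgen _ (σ_mem hu)
  rcases D.moved_irred (L ⊓ moved cM) inf_le_right (fun y hy => ⟨hLc y hy.1, by
    obtain ⟨m, hm⟩ := mem_moved.1 hy.2
    exact ⟨cM m, by
      change cM (cM m) - cM m = cM y
      rw [← map_sub, hm]⟩⟩) with h | h
  · refine absurd (D.fix_of_c_fix hv fun u hu => ?_) hv0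
    have h1 : cM (P u v) - P u v ∈ L ⊓ moved cM :=
      ⟨L.sub_mem (hLc _ (hgen u hu)) (hgen u hu), P u v, rfl⟩
    rw [h, AddSubgroup.mem_bot, sub_eq_zero, D.c_P, hv] at h1
    exact h1
  · have hE : moved cM ≤ L := h ▸ inf_le_left
    cases nonempty_fintype (U σ)
    rw [eq_top_iff]
    intro m _
    have hmod := D.U_trivial_mod L hLU m fun u hu w _ => by
      have h1 : P (σ u) (cM (P w m) - P w m) ∈ L := hLU _ (σ_mem hu) _ (hE ⟨_, rfl⟩)
      rw [map_sub, ← D.c_P] at h1
      have h2 := L.sub_mem (hE (⟨P u (P w m), rfl⟩ : _ ∈ moved cM)) h1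
      convert h2 using 1
      change P (σ u) (P w m) - P u (P w m) = cM (P u (P w m)) - P u (P w m) - _
      abel
    have h1 : ∑ u : U σ, P (u : T) m = 0 := D.no_U_fixed hv hv0 fun w hw => by
      rw [map_sum]
      simp only [← P_mul]
      exact Equiv.sum_comp (Equiv.mulLeft (⟨w, hw⟩ : U σ)) (fun u => P (u : T) m)
    have h2 := L.sum_mem (t := (Finset.univ : Finset (U σ))) fun u _ => hmod u u.2
    rw [Finset.sum_sub_distrib, h1, zero_sub, Finset.sum_const, Finset.card_univ,
      ← Nat.card_eq_fintype_card,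
      D.odd_smul (fun hd => D.odd (hd.trans (U σ).card_subgroup_dvd_card))] at h2
    simpa using L.neg_mem h2

theorem antisymm (D : ExcData P σ cM q k β) (x y : M) : β x y * β y x = 1 := by
  have h := D.alt (x + y)
  rw [D.add_left, D.add_right, D.add_right, D.alt, D.alt, one_mul, mul_one] at h
  exact h

theorem beta_zero_right (D : ExcData P σ cM q k β) (x : M) : β x 0 = 1 := by
  have h := D.add_right x 0 0
  rw [add_zero] at h
  exact left_eq_mul.1 h

theorem not_two_fixed (D : ExcData P σ cM q k β) {v : M} (hv : cM v = v) (hv0 : v ≠ 0) :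
    ∃ w, cM w = w ∧ w ≠ 0 ∧ w ≠ v := by
  by_contra hne
  push Not at hne
  apply hv0
  refine D.nondeg v fun x => ?_
  obtain ⟨x0, e, hx0, he, rfl⟩ := D.decomp x
  obtain ⟨m, rfl⟩ := mem_moved.1 he
  rw [D.add_right]
  have h1 : β v x0 = 1 := by
    by_cases h0 : x0 = 0
    · rw [h0, D.beta_zero_right]
    · rw [hne x0 hx0 h0, D.alt]
  have h2 : β v (cM m - m) = 1 := by
    rw [sub_eq_add_neg, D.neg_self, D.add_right]
    have h3 := D.inv_c v m
    rw [hv] at h3
    rw [h3, ← D.add_right, D.two, D.beta_zero_right]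
  rw [h1, h2, one_mul]

/-- `c` has no fixed points -/
theorem c_fpf (D : ExcData P σ cM q k β) : ∀ v, cM v = v → v = 0 := by
  classical
  intro v hv
  by_contra hv0
  set A := Subring.closure ((fun u => (P u : AddMonoid.End M)) '' (U σ : Set T)) with hA
  letI : CommRing A := Subring.closureCommRingOfComm (by
    rintro _ ⟨s, -, rfl⟩ _ ⟨t, -, rfl⟩
    exact D.comm s t)
  have hq0 : 0 < q := D.hq.pos
  set cI := cM ^ (q - 1) with hcI
  have hcc : cM * cI = 1 := by rw [hcI, ← pow_succ', Nat.sub_add_cancel hq0, D.cq]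
  have hcc' : cI * cM = 1 := by rw [hcI, ← pow_succ, Nat.sub_add_cancel hq0, D.cq]
  have hconj : ∀ a ∈ A, cM * a * cI ∈ A := by
    intro a ha
    refine Subring.closure_induction (p := fun a _ => cM * a * cI ∈ A) ?_ ?_ ?_ ?_ ?_ ?_ ha
    · rintro _ ⟨u, hu, rfl⟩
      rw [D.compat, mul_assoc, hcc, mul_one]
      exact Subring.subset_closure ⟨_, σ_mem hu, rfl⟩
    · rw [mul_zero, zero_mul]; exact zero_mem _
    · rw [mul_one, hcc]; exact one_mem _
    · intro x y _ _ hx hy; rw [mul_add, add_mul]; exact add_mem hx hy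
    · intro x _ hx; rw [mul_neg, neg_mul]; exact neg_mem hx
    · intro x y _ _ hx hy
      have h1 := mul_mem hx hy
      rwa [show cM * x * cI * (cM * y * cI) = cM * x * (cI * cM) * y * cI by simp only [mul_assoc],
        hcc', mul_one, mul_assoc cM x y] at h1
  let θh : A →+* A :=
    { toFun := fun a => ⟨cM * (a : AddMonoid.End M) * cI, hconj a a.2⟩
      map_one' := Subtype.ext (by simp [hcc])
      map_zero' := Subtype.ext (by simp)
      map_add' := fun a b => Subtype.ext (by simp [mul_add, add_mul])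
      map_mul' := fun a b => Subtype.ext (by
        change cM * ((a : AddMonoid.End M) * b) * cI = cM * a * cI * (cM * b * cI)
        rw [show cM * (a : AddMonoid.End M) * cI * (cM * b * cI) =
          cM * a * (cI * cM) * b * cI by simp only [mul_assoc], hcc', mul_one]
        simp only [mul_assoc]) }
  haveI : Finite (AddMonoid.End M) := Finite.of_injective _ DFunLike.coe_injective
  haveI : Finite A := inferInstance
  have hθbij : Function.Bijective θh := Finite.injective_iff_bijective.1 fun a b hab => by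
    have h1 : cM * (a : AddMonoid.End M) * cI = cM * b * cI := congrArg Subtype.val hab
    apply Subtype.ext
    calc (a : AddMonoid.End M) = cI * (cM * a * cI) * cM := by
          simp only [← mul_assoc, hcc', one_mul]; rw [mul_assoc, hcc', mul_one]
      _ = cI * (cM * b * cI) * cM := by rw [h1]
      _ = b := by simp only [← mul_assoc, hcc', one_mul]; rw [mul_assoc, hcc', mul_one]
  let θ : A ≃+* A := RingEquiv.ofBijective θh hθbij
  have hθv : ∀ a : A, (θ a : AddMonoid.End M) v = cM ((a : AddMonoid.End M) v) := by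
    intro a
    have h1 : cI v = v := by
      rw [hcI, c_pow_apply]
      exact Function.iterate_fixed hv _
    change cM ((a : AddMonoid.End M) (cI v)) = _
    rw [h1]
  have hgenA : ∀ u ∈ U σ, (P u : AddMonoid.End M) ∈ A := fun u hu =>
    Subring.subset_closure ⟨u, hu, rfl⟩
  have hsurj : ∀ m : M, ∀ w, cM w = w → w ≠ 0 → ∃ a : A, (a : AddMonoid.End M) w = m := by
    intro m w hw hw0
    let I : AddSubgroup M :=
      { carrier := {m | ∃ a : A, (a : AddMonoid.End M) w = m}
        zero_mem' := ⟨0, rfl⟩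
        add_mem' := fun {x y} hx hy => by
          obtain ⟨a, rfl⟩ := hx
          obtain ⟨b, rfl⟩ := hy
          exact ⟨a + b, rfl⟩
        neg_mem' := fun {x} hx => by
          obtain ⟨a, rfl⟩ := hx
          exact ⟨-a, rfl⟩ }
    have h1 : m ∈ AddSubgroup.closure ((fun u => P u w) '' (U σ : Set T)) :=
      (D.orbit_span_top hw hw0).symm ▸ AddSubgroup.mem_top m
    refine (show AddSubgroup.closure ((fun u => P u w) '' (U σ : Set T)) ≤ I from ?_) h1
    rw [AddSubgroup.closure_le]
    rintro _ ⟨u, hu, rfl⟩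
    exact ⟨⟨P u, hgenA u hu⟩, rfl⟩
  have hinj : ∀ a b : A, (a : AddMonoid.End M) v = (b : AddMonoid.End M) v → a = b := by
    intro a b hab
    refine Subtype.ext (AddMonoidHom.ext fun m => ?_)
    obtain ⟨d, rfl⟩ := hsurj m v hv hv0
    have h1 : ∀ x : A, (x : AddMonoid.End M) ((d : AddMonoid.End M) v) =
        (d : AddMonoid.End M) ((x : AddMonoid.End M) v) := fun x =>
      DFunLike.congr_fun (congrArg Subtype.val (mul_comm x d)) v
    exact ((h1 a).trans ((congrArg _ hab).trans (h1 b).symm))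
  have hev : Function.Bijective fun a : A => (a : AddMonoid.End M) v :=
    ⟨fun a b h => hinj a b h, fun m => hsurj m v hv hv0⟩
  haveI : Nontrivial A := ⟨1, 0, fun h => hv0 (by
    have h1 := congrArg (fun a : A => (a : AddMonoid.End M) v) h
    exact h1)⟩
  have hsimple : ∀ J : Ideal A, (∀ x ∈ J, θ x ∈ J) → J = ⊥ ∨ J = ⊤ := by
    intro J hJ
    let Jv : AddSubgroup M :=
      { carrier := {m | ∃ a ∈ J, (a : AddMonoid.End M) v = m}
        zero_mem' := ⟨0, J.zero_mem, rfl⟩
        add_mem' := fun {x y} hx hy => by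
          obtain ⟨a, ha, rfl⟩ := hx
          obtain ⟨b, hb, rfl⟩ := hy
          exact ⟨a + b, J.add_mem ha hb, rfl⟩
        neg_mem' := fun {x} hx => by
          obtain ⟨a, ha, rfl⟩ := hx
          exact ⟨-a, J.neg_mem ha, rfl⟩ }
    have hJU : ∀ u ∈ U σ, ∀ x ∈ Jv, P u x ∈ Jv := by
      rintro u hu _ ⟨a, ha, rfl⟩
      exact ⟨⟨P u, hgenA u hu⟩ * a, J.mul_mem_left _ ha, rfl⟩
    have hJc : ∀ x ∈ Jv, cM x ∈ Jv := by
      rintro _ ⟨a, ha, rfl⟩
      exact ⟨θ a, hJ a ha, hθv a⟩
    by_cases hfix : ∀ x ∈ Jv, cM x = x → x = 0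
    · left
      rw [eq_bot_iff]
      intro a ha
      rw [Ideal.mem_bot]
      apply hinj
      exact D.no_U_fixed hv hv0 fun u hu =>
        D.U_trivial_of_fpf Jv hJc hJU hfix u hu _ ⟨a, ha, rfl⟩
    · right
      push Not at hfix
      obtain ⟨w, ⟨a, ha, rfl⟩, hw, hw0⟩ := hfix
      obtain ⟨b, hb⟩ := hsurj v _ hw hw0
      rw [Ideal.eq_top_iff_one]
      have h1 : b * a = 1 := hinj _ _ hb
      exact h1 ▸ J.mul_mem_left b ha
  have hθq : θ ^ q = 1 := by
    refine RingEquiv.ext fun a => hinj _ _ ?_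
    have h1 : ∀ n, ((θ ^ n) a : AddMonoid.End M) v = (⇑cM)^[n] ((a : AddMonoid.End M) v) := by
      intro n
      induction n with
      | zero => rfl
      | succ n ih => rw [pow_succ', RingAut.mul_apply, hθv, ih, Function.iterate_succ_apply']
    rw [h1, ← c_pow_apply, D.cq]
    rfl
  have hθ1 : θ ≠ 1 := by
    intro h
    apply hv0
    refine D.fix_of_c_fix hv fun u hu => ?_
    have h1 := hθv ⟨P u, hgenA u hu⟩
    rw [h] at h1
    change P u v = cM (P u v) at h1
    rw [D.c_P, hv] at h1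
    exact h1.symm
  have hineq := card_fixed_pow_le θ D.hq hθq hθ1 hsimple
  have hcC : Nat.card {x : A // θ x = x} = Nat.card (diffHom cM).ker := by
    refine Nat.card_congr (Equiv.ofBijective
      (fun x => ⟨(x.1 : AddMonoid.End M) v, ?_⟩) ⟨fun x y hxy => ?_, fun m => ?_⟩)
    · change cM _ - _ = 0
      rw [sub_eq_zero, ← hθv, x.2]
    · exact Subtype.ext (hinj _ _ (congrArg Subtype.val hxy))
    · obtain ⟨a, ha⟩ := hsurj m v hv hv0
      refine ⟨⟨a, hinj _ _ ?_⟩, Subtype.ext ha⟩
      rw [hθv, ha]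
      exact sub_eq_zero.1 m.2
  rw [hcC, Nat.card_eq_of_bijective _ hev] at hineq
  have hM : Nat.card M = Nat.card (diffHom cM).ker * 2 ^ (2 * k) := by
    rw [← D.card_range, ← (diffHom cM).ker.card_mul_index, AddSubgroup.index_ker]
    rfl
  rw [hM] at hineq
  obtain ⟨w, hw, hw0, hwv⟩ := D.not_two_fixed hv hv0
  set C := Nat.card (diffHom cM).ker with hCdef
  have h3 : 3 ≤ C := by
    cases nonempty_fintype (diffHom cM).ker
    rw [hCdef, Nat.card_eq_fintype_card]
    refine le_trans (le_of_eq ?_) (Finset.card_le_univ ({0, ⟨v, ?_⟩, ⟨w, ?_⟩} : Finset _))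
    · rw [Finset.card_eq_three.2]
      refine ⟨_, _, _, ?_, ?_, ?_, rfl⟩
      · exact fun h => hv0 (congrArg Subtype.val h).symm
      · exact fun h => hw0 (congrArg Subtype.val h).symm
      · exact fun h => hwv (congrArg Subtype.val h).symm
    all_goals change cM _ - _ = 0
    all_goals rw [sub_eq_zero]
    all_goals assumption
  obtain ⟨q', rfl⟩ : ∃ q', q = q' + 1 := ⟨q - 1, by omega⟩
  rw [pow_succ', Nat.mul_le_mul_left_iff (by omega)] at hineq
  have hqk : q' = 2 ^ k := by have := D.hqk; omega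
  have h4 : 2 ^ (2 * k) < C ^ q' := by
    rw [hqk]
    calc 2 ^ (2 * k) ≤ 2 ^ (2 ^ k) := by
          refine Nat.pow_le_pow_right two_pos ?_
          obtain ⟨j, rfl⟩ : ∃ j, k = j + 1 := ⟨k - 1, by have := D.hk; omega⟩
          rw [pow_succ']
          exact Nat.mul_le_mul_left 2 (Nat.succ_le_of_lt j.lt_two_pow_self)
      _ < C ^ (2 ^ k) := Nat.pow_lt_pow_left (by omega) (pow_pos two_pos k).ne'
  omega

/-- there is no exceptional case -/
theorem eq_zero (D : ExcData P σ cM q k β) : ∀ m : M, m = 0 := by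
  classical
  have hC := D.c_fpf
  have hq0 : 0 < q := D.hq.pos
  have hcomm : ∀ t x, cM (P t x) = P t (cM x) := by
    intro t x
    have h1 := D.gen_trivial_of_fpf (E := ⊤) (fun _ _ => Subgroup.mem_top _) ⊤
      (fun _ _ => AddSubgroup.mem_top _) (fun _ _ _ _ => AddSubgroup.mem_top _)
      (fun x _ => hC x) t (Subgroup.mem_top _) (cM x) (AddSubgroup.mem_top _)
    rw [D.c_P]
    conv_rhs => rw [← h1]
    rw [← P_mul, mul_inv_cancel_left]
  intro m₀
  by_contra hm₀
  have hmoved : moved cM = ⊤ := by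
    refine eq_top_iff.2 fun x _ => ?_
    obtain ⟨x0, e, hx0, he, rfl⟩ := D.decomp x
    rwa [hC x0 hx0, zero_add]
  set L := AddSubgroup.closure (Set.range fun i : ℕ => (⇑cM)^[i] m₀) with hL
  have hLtop : L = ⊤ := by
    rcases D.moved_irred L (hmoved ▸ le_top) (fun y hy => by
      refine (show L ≤ L.comap (cM : M →+ M) from ?_) hy
      rw [hL, AddSubgroup.closure_le]
      rintro _ ⟨i, rfl⟩
      exact AddSubgroup.subset_closure ⟨i + 1, Function.iterate_succ_apply' _ _ _⟩) with h | h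
    · exfalso
      apply hm₀
      rw [← AddSubgroup.mem_bot, ← h]
      exact AddSubgroup.subset_closure ⟨0, rfl⟩
    · rw [h, hmoved]
  set A := Subring.closure ({cM} : Set (AddMonoid.End M)) with hA
  have hAc : ∀ a ∈ A, ∀ b ∈ A, Commute a b := by
    letI : CommRing A := Subring.closureCommRingOfComm (by
      rintro x hx y hy
      rw [Set.mem_singleton_iff] at hx hy
      rw [hx, hy])
    intro a ha b hb
    exact congrArg Subtype.val (mul_comm (⟨a, ha⟩ : A) ⟨b, hb⟩)
  have hcA : cM ∈ A := Subring.subset_closure (Set.mem_singleton cM)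
  have hchar : ∀ x : AddMonoid.End M, x + x = 0 := fun x => AddMonoidHom.ext fun m => D.two (x m)
  have hfrob : ∀ a ∈ A, ∀ b ∈ A, ∀ n, (a + b) ^ (2 ^ n) = a ^ (2 ^ n) + b ^ (2 ^ n) := by
    intro a ha b hb n
    induction n with
    | zero => simp
    | succ n ih =>
      rw [pow_succ, pow_mul, ih, pow_mul, pow_mul, sq, sq, sq]
      have h1 : b ^ (2 ^ n) * a ^ (2 ^ n) = a ^ (2 ^ n) * b ^ (2 ^ n) :=
        ((hAc b hb a ha).pow_pow _ _).eq
      rw [add_mul, mul_add, mul_add, h1, add_assoc, ← add_assoc (a ^ (2 ^ n) * b ^ (2 ^ n)), hchar,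
        zero_add]
  have hadj : ∀ a ∈ A, ∀ x y, β (a x) y = β x ((a ^ (2 ^ k)) y) := by
    intro a ha
    refine Subring.closure_induction
      (p := fun a _ => ∀ x y, β (a x) y = β x ((a ^ (2 ^ k)) y)) ?_ ?_ ?_ ?_ ?_ ?_ ha
    · intro z hz x y
      rw [Set.mem_singleton_iff] at hz
      rw [hz]
      have h1 : cM ((cM ^ (2 ^ k)) y) = y := by
        change (cM * cM ^ (2 ^ k)) y = y
        rw [← pow_succ', ← D.hqk, D.cq]
        rfl
      conv_lhs => rw [← h1, D.inv_c]
    · intro x y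
      rw [zero_pow (pow_ne_zero _ two_ne_zero)]
      change β 0 y = β x 0
      rw [D.beta_zero_right]
      have h := D.add_left 0 0 y
      rw [add_zero] at h
      exact left_eq_mul.1 h
    · intro x y; rw [one_pow]; rfl
    · intro u v hu hv h1 h2 x y
      rw [hfrob u hu v hv]
      change β (u x + v x) y = β x ((u ^ (2 ^ k)) y + (v ^ (2 ^ k)) y)
      rw [D.add_left, D.add_right, h1, h2]
    · intro u _ h1 x y
      have hn : -u = u := neg_eq_of_add_eq_zero_left (hchar u)
      rw [hn]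
      exact h1 x y
    · intro u v hu hv h1 h2 x y
      rw [(hAc u hu v hv).mul_pow, ((hAc u hu v hv).pow_pow _ _).eq]
      change β (u (v x)) y = β x ((v ^ (2 ^ k)) ((u ^ (2 ^ k)) y))
      rw [h1, h2]
  refine hm₀ (D.fixT m₀ fun t => ?_)
  obtain ⟨a, haA, ha⟩ : ∃ a ∈ A, a m₀ = P t m₀ := by
    let I : AddSubgroup M :=
      { carrier := {m | ∃ a ∈ A, a m₀ = m}
        zero_mem' := ⟨0, zero_mem _, rfl⟩
        add_mem' := fun {x y} hx hy => by
          obtain ⟨a, ha, rfl⟩ := hx
          obtain ⟨b, hb, rfl⟩ := hy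
          exact ⟨a + b, add_mem ha hb, rfl⟩
        neg_mem' := fun {x} hx => by
          obtain ⟨a, ha, rfl⟩ := hx
          exact ⟨-a, neg_mem ha, rfl⟩ }
    refine (show L ≤ I from ?_) (hLtop ▸ AddSubgroup.mem_top (P t m₀))
    rw [hL, AddSubgroup.closure_le]
    rintro _ ⟨i, rfl⟩
    exact ⟨cM ^ i, pow_mem hcA i, c_pow_apply i m₀⟩
  have hτ : (P t : AddMonoid.End M) = a := by
    refine AddMonoidHom.ext fun m => ?_
    refine (show L ≤ (P t : M →+ M).eqLocus (a : M →+ M) from ?_) (hLtop ▸ AddSubgroup.mem_top m)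
    rw [hL, AddSubgroup.closure_le]
    rintro _ ⟨i, rfl⟩
    change P t ((⇑cM)^[i] m₀) = a ((⇑cM)^[i] m₀)
    have hc : a * cM ^ i = cM ^ i * a :=
      (hAc a haA _ (pow_mem hcA i)).eq
    have h2 : a ((⇑cM)^[i] m₀) = (⇑cM)^[i] (P t m₀) := by
      rw [← c_pow_apply, ← c_pow_apply, ← ha]
      exact DFunLike.congr_fun hc m₀
    rw [h2]
    clear h2 hc
    induction i with
    | zero => rfl
    | succ i ih => rw [Function.iterate_succ_apply', Function.iterate_succ_apply', ← ih, hcomm]
  have haq : a ^ q = 1 := by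
    refine AddMonoidHom.ext fun y => ?_
    change (a ^ q) y = y
    rw [← sub_eq_zero, sub_eq_add_neg, D.neg_self]
    refine D.nondeg _ fun x => ?_
    have h1 : β x ((a ^ q) y) = β x y := by
      rw [D.hqk, pow_succ]
      change β x ((a ^ 2 ^ k) (a y)) = _
      rw [← hadj a haA, ← hτ, D.inv_P]
    have h2 : β x ((a ^ q) y + y) = 1 := by
      rw [D.add_right, h1, ← D.add_right, D.two, D.beta_zero_right]
    have h3 := D.antisymm x ((a ^ q) y + y)
    rwa [h2, one_mul] at h3
  rw [← hτ, ← map_pow] at haq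
  obtain ⟨j, hj⟩ := exists_pow_eq_self_of_coprime (x := t) (n := q)
    ((D.cop.coprime_dvd_left (orderOf_dvd_natCard t)).symm)
  rw [← hj, map_pow, haq, one_pow]
  rfl

end ExcData

end Cfsg.Agent.PQAct
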