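import Cfsg.Agent.PQAct.Action
import Cfsg.Agent.FGS73.SGLinear

/-!
The linear setting: weights of abelian subgroups and their stabilisers.
-/

set_option autoImplicit false
set_option linter.style.haveILetI false
set_option linter.unusedSectionVars false

namespace Cfsg.Agent.PQAct

open Subgroup

variable {A : Type*} [Group A] {H : Type*} [Group H] {K : Type*} [Field K] {U : Type*}
  [AddCommGroup U] [Module K U]

/-- the weight space -/
def wspace (ρ : H →* Module.End K U) (Z : Subgroup H) (χ : Z →* Kˣ) : Submodule K U where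
  carrier := {w | ∀ z : Z, ρ (z : H) w = (χ z : K) • w}
  zero_mem' := fun z => by simp
  add_mem' := fun {u v} hu hv z => by rw [map_add, hu z, hv z, smul_add]
  smul_mem' := fun a {u} hu z => by rw [map_smul, hu z, smul_comm]

/-- `A` of order `p * q` acts without fixed points on `H` and on the faithful module `U`. -/
structure Setup (b c : A) (p q : ℕ) (φ : A →* MulAut H) (ρ : H →* Module.End K U)
    (S : A →* Module.End K U) : Prop where
  pq : PQ b c p q
  cop : (Nat.card H).Coprime (p * q)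
  fix : ∀ x : H, (∀ a, φ a x = x) → x = 1
  compat : ∀ a x w, S a (ρ x w) = ρ (φ a x) (S a w)
  wfix : ∀ w, (∀ a, S a w = w) → w = 0
  inj : Function.Injective ρ
  pK : (p : K) ≠ 0
  qK : (q : K) ≠ 0

theorem end_apply_inv {G : Type*} [Group G] (ρ : G →* Module.End K U) (g : G) (w : U) :
    ρ g⁻¹ (ρ g w) = w := by
  rw [← Module.End.mul_apply, ← map_mul, inv_mul_cancel, map_one, Module.End.one_apply]

theorem wspace_one_of {ρ : H →* Module.End K U} {Z : Subgroup H} {χ : Z →* Kˣ} {w : U}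
    (hw : w ∈ wspace ρ Z χ) (hw0 : w ≠ 0) {z : Z} (hz : ρ (z : H) w = w) : χ z = 1 := by
  have h1 := hw z
  rw [hz] at h1
  apply Units.ext
  have h2 : ((χ z : K) - 1) • w = 0 := by rw [sub_smul, one_smul, ← h1, sub_self]
  exact sub_eq_zero.1 ((smul_eq_zero.1 h2).resolve_right hw0)

theorem weight_unique {ρ : H →* Module.End K U} {Z : Subgroup H} {χ χ' : Z →* Kˣ} {w : U}
    (hw : w ∈ wspace ρ Z χ) (hw' : w ∈ wspace ρ Z χ') (hw0 : w ≠ 0) : χ = χ' :=
  MonoidHom.ext fun z => Units.ext (smul_left_injective K hw0 ((hw z).symm.trans (hw' z)))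

/-- a commuting family of operators of order prime to the characteristic has a weight on any
element acting nontrivially -/
theorem exists_weight [IsAlgClosed K] [FiniteDimensional K U] (ρ : H →* Module.End K U)
    (Z : Subgroup H) [Finite Z] (hZc : ∀ x ∈ Z, ∀ y ∈ Z, x * y = y * x)
    (hcard : (Nat.card Z : K) ≠ 0) {x : Z} (hx : ρ (x : H) ≠ 1) :
    ∃ (χ : Z →* Kˣ) (w : U), w ∈ wspace ρ Z χ ∧ w ≠ 0 ∧ χ x ≠ 1 := by
  classical
  cases nonempty_fintype Z
  let L : Submodule K U := LinearMap.range (ρ (x : H) - 1)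
  have hL : L ≠ ⊥ := by
    intro h
    apply hx
    rw [← sub_eq_zero, ← LinearMap.range_eq_bot]
    exact h
  have hLfix : ∀ w ∈ L, ρ (x : H) w = w → w = 0 := by
    rintro _ ⟨u, rfl⟩ hw
    set d := (ρ (x : H) - 1) u with hd
    have hpow : ∀ i : ℕ, ρ ((x : H) ^ i) u = u + (i : K) • d := by
      intro i
      induction i with
      | zero => simp
      | succ i ih =>
        rw [pow_succ', map_mul, Module.End.mul_apply, ih, map_add, map_smul, hw,
          show ρ (x : H) u = u + d by simp [hd], Nat.cast_succ, add_smul, one_smul]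
        abel
    have h1 := hpow (orderOf x)
    rw [← SubmonoidClass.coe_pow, pow_orderOf_eq_one, OneMemClass.coe_one, map_one,
      Module.End.one_apply] at h1
    refine (smul_eq_zero.1 (left_eq_add.1 h1)).resolve_left ?_
    obtain ⟨m, hm⟩ := orderOf_dvd_natCard x
    intro h0
    exact hcard (by rw [hm, Nat.cast_mul, h0, zero_mul])
  obtain ⟨f, w, hwL, hw0, hf⟩ := FGS73.common_eigen (fun z : Z => ρ (z : H))
    (fun a b => by rw [← map_mul, ← map_mul, hZc a a.2 b b.2]) L hL (by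
      rintro z _ ⟨u, rfl⟩
      refine ⟨ρ (z : H) u, ?_⟩
      rw [LinearMap.sub_apply, Module.End.one_apply, LinearMap.sub_apply, Module.End.one_apply,
        map_sub, ← Module.End.mul_apply, ← Module.End.mul_apply, ← map_mul, ← map_mul,
        hZc x x.2 z z.2])
  let g : Z →* K :=
    { toFun := f
      map_one' := by
        refine smul_left_injective K hw0 ?_
        change f 1 • w = (1 : K) • w
        rw [← hf, OneMemClass.coe_one, map_one, Module.End.one_apply, one_smul]
      map_mul' := fun a b => by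
        refine smul_left_injective K hw0 ?_
        change f (a * b) • w = (f a * f b) • w
        rw [← hf, Subgroup.coe_mul, map_mul, Module.End.mul_apply, hf, map_smul, hf, smul_smul,
          mul_comm] }
  refine ⟨g.toHomUnits, w, fun z => hf z, hw0, fun h => hw0 (hLfix w hwL ?_)⟩
  have h1 : f x = 1 := congrArg Units.val h
  have h2 := hf x
  rw [h1, one_smul] at h2
  exact h2

open Classical in
/-- vectors of different weights with sum zero vanish weight by weight -/
theorem eq_zero_of_sum {ρ : H →* Module.End K U} (Z : Subgroup H) [Finite Z]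
    (hcard : (Nat.card Z : K) ≠ 0) {ι : Type*} (s : Finset ι) (χ : ι → (Z →* Kˣ)) (w : ι → U)
    (hw : ∀ i ∈ s, w i ∈ wspace ρ Z (χ i)) (hsum : ∑ i ∈ s, w i = 0) {i₀ : ι} :
    ∑ i ∈ s with χ i = χ i₀, w i = 0 := by
  classical
  cases nonempty_fintype Z
  have h1 := congrArg (fun u => ∑ z : Z, ((χ i₀ z)⁻¹ : Kˣ).val • ρ (z : H) u) hsum
  simp only [map_zero, smul_zero, Finset.sum_const_zero, map_sum, Finset.smul_sum] at h1
  rw [Finset.sum_comm] at h1
  have h2 : ∀ i ∈ s, ∑ z : Z, ((χ i₀ z)⁻¹ : Kˣ).val • ρ (z : H) (w i) =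
      if χ i = χ i₀ then (Nat.card Z : K) • w i else 0 := by
    intro i hi
    simp only [hw i hi _, smul_smul, ← Finset.sum_smul]
    split_ifs with h
    · simp [h, Nat.card_eq_fintype_card]
    · have h3 := sum_hom_units_eq_zero ((Units.coeHom K).comp ((χ i₀)⁻¹ * χ i)) (by
        intro h4
        apply h
        refine MonoidHom.ext fun z => ?_
        have h5 := DFunLike.congr_fun h4 z
        simp only [MonoidHom.comp_apply, MonoidHom.mul_apply, MonoidHom.inv_apply,
          Units.coeHom_apply, MonoidHom.one_apply, Units.val_eq_one] at h5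
        exact (inv_mul_eq_one.1 h5).symm)
      simp only [MonoidHom.comp_apply, MonoidHom.mul_apply, MonoidHom.inv_apply,
        Units.coeHom_apply, Units.val_mul] at h3
      rw [h3, zero_smul]
  rw [Finset.sum_congr rfl h2, ← Finset.sum_filter, ← Finset.smul_sum] at h1
  convert (smul_eq_zero.1 h1).resolve_left hcard

/-- a vector with vanishing orbit sum, fixed by the stabiliser of its weight, is zero -/
theorem eq_zero_of_orbit_sum {G : Type*} [Group G] [Fintype G] {ρ : H →* Module.End K U}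
    (Z : Subgroup H) [Finite Z] (hcard : (Nat.card Z : K) ≠ 0)
    (hG : ∀ L : Subgroup G, (Nat.card L : K) ≠ 0) (D : G →* MulAut (Z →* Kˣ))
    (SG : G →* Module.End K U) {χ : Z →* Kˣ} {w : U}
    (hmap : ∀ x, SG x w ∈ wspace ρ Z (D x χ)) (hsum : ∑ x : G, SG x w = 0)
    (hfix : ∀ x, D x χ = χ → SG x w = w) : w = 0 := by
  classical
  have h1 := eq_zero_of_sum Z hcard Finset.univ (fun x => D x χ) (fun x => SG x w)
    (fun x _ => hmap x) hsum (i₀ := 1)
  replace h1 : ∑ x ∈ Finset.univ.filter (fun x => D x χ = χ), SG x w = 0 := by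
    convert h1 using 4; rw [map_one D, MulAut.one_apply]
  rw [Finset.sum_congr rfl (fun x hx => hfix x (Finset.mem_filter.1 hx).2), Finset.sum_const,
    ← Nat.cast_smul_eq_nsmul K] at h1
  refine (smul_eq_zero.1 h1).resolve_left ?_
  let L : Subgroup G :=
    { carrier := {x | D x χ = χ}
      one_mem' := aut_one D χ
      mul_mem' := fun {s t} hs ht => by
        change D (s * t) χ = χ
        rw [aut_mul, ht, hs]
      inv_mem' := fun {s} hs => by
        change D s⁻¹ χ = χ
        conv_lhs => rw [← (hs : D s χ = χ)]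
        rw [aut_inv_apply] }
  have := hG L
  rwa [show Nat.card L = (Finset.univ.filter fun x => D x χ = χ).card by
    rw [Nat.card_eq_fintype_card, ← Fintype.card_subtype]; rfl] at this

namespace Setup

variable {b c : A} {p q : ℕ} {φ : A →* MulAut H} {ρ : H →* Module.End K U}
  {S : A →* Module.End K U}

theorem change [Finite A] (h : Setup b c p q φ ρ S) {a : A} (ha : a ∉ zpowers b) :
    Setup b a p q φ ρ S :=
  { h with pq := h.pq.change ha }

theorem wspace_act (h : Setup b c p q φ ρ S) (Z : Subgroup H) (hZ : ∀ a, ∀ x ∈ Z, φ a x ∈ Z)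
    {χ : Z →* Kˣ} {w : U} (hw : w ∈ wspace ρ Z χ) (a : A) :
    S a w ∈ wspace ρ Z (dual (resAut φ Z hZ) a χ) := by
  intro z
  rw [dual_apply, ← map_smul, ← hw, h.compat, resAut_val, aut_apply_inv]

theorem cop_sub [Finite H] (h : Setup b c p q φ ρ S) (N : Subgroup H) :
    (Nat.card N).Coprime (p * q) :=
  h.cop.coprime_dvd_left N.card_subgroup_dvd_card

/-- no nontrivial character of an invariant subgroup is fixed by the whole group -/
theorem char_fixed_trivial [Finite A] [Finite H] (h : Setup b c p q φ ρ S) (R : Subgroup H)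
    (hR : ∀ a, ∀ x ∈ R, φ a x ∈ R) {M : Type*} [CommGroup M] (χ : R →* M)
    (hχ : ∀ a, dual (resAut φ R hR) a χ = χ) : χ = 1 := by
  refine MonoidHom.ext fun x => ?_
  haveI := h.pq.isSolvable
  obtain ⟨n, hn, hfix⟩ := exists_fixed_coset (resAut φ R hR) ⊤ χ.ker
    (fun a _ z hz => by
      rw [MonoidHom.mem_ker] at hz ⊢
      rw [(dual_eq_iff _ a χ).1 (hχ a), hz])
    (h.pq.coprime_subgroup
      ((h.cop_sub R).coprime_dvd_left (Subgroup.card_subgroup_dvd_card _)) _)
    (Or.inl inferInstance) x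
    (fun a _ => by
      rw [MonoidHom.mem_ker, map_mul, map_inv, (dual_eq_iff _ a χ).1 (hχ a), inv_mul_cancel])
  have h1 : ((x * n : R) : H) = 1 :=
    h.fix _ fun a => congrArg Subtype.val (hfix a (mem_top a))
  have h2 : x * n = 1 := Subtype.ext h1
  have h3 : χ (x * n) = 1 := by rw [h2, map_one]
  rwa [map_mul, MonoidHom.mem_ker.1 hn, mul_one] at h3

/-- a weight has a nontrivial stabiliser -/
theorem exists_stab [Finite A] (h : Setup b c p q φ ρ S) (Z : Subgroup H) [Finite Z]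
    (hZ : ∀ a, ∀ x ∈ Z, φ a x ∈ Z) (hcard : (Nat.card Z : K) ≠ 0)
    {χ : Z →* Kˣ} {w : U} (hw : w ∈ wspace ρ Z χ) (hw0 : w ≠ 0) :
    ∃ g : A, g ≠ 1 ∧ dual (resAut φ Z hZ) g χ = χ := by
  classical
  by_contra hne
  push Not at hne
  cases nonempty_fintype A
  refine hw0 (eq_zero_of_orbit_sum Z hcard (h.pq.natCast_ne_zero h.pK h.qK)
    (dual (resAut φ Z hZ)) S (h.wspace_act Z hZ hw) (h.wfix _ fun a => ?_) fun x hx => ?_)
  · rw [map_sum]
    simp only [← Module.End.mul_apply, ← map_mul]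
    exact Equiv.sum_comp (Equiv.mulLeft a) (fun x => S x w)
  · by_cases hx1 : x = 1
    · rw [hx1, map_one, Module.End.one_apply]
    · exact absurd hx (hne x hx1)

theorem dual_compat (Z T : Subgroup H) (hZ : ∀ a, ∀ x ∈ Z, φ a x ∈ Z)
    (hT : ∀ a, ∀ x ∈ T, φ a x ∈ T) (hTZ : ∀ t ∈ T, ∀ x ∈ Z, t * x * t⁻¹ ∈ Z)
    {M : Type*} [CommGroup M] (a : A) (t : T) (χ : Z →* M) :
    dual (resAut φ Z hZ) a (dual (conjRes T Z hTZ) t χ) =
      dual (conjRes T Z hTZ) (resAut φ T hT a t) (dual (resAut φ Z hZ) a χ) := by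
  refine MonoidHom.ext fun x => congrArg χ (Subtype.ext ?_)
  change (t : H)⁻¹ * φ a⁻¹ x * ((t : H)⁻¹)⁻¹ =
    φ a⁻¹ ((φ a t)⁻¹ * x * ((φ a t)⁻¹)⁻¹)
  rw [inv_inv, inv_inv, map_mul, map_mul, map_inv (φ a⁻¹), aut_inv_apply]

theorem wspace_conj (Z T : Subgroup H) (hTZ : ∀ t ∈ T, ∀ x ∈ Z, t * x * t⁻¹ ∈ Z)
    {χ : Z →* Kˣ} {w : U} (hw : w ∈ wspace ρ Z χ) (t : T) :
    ρ (t : H) w ∈ wspace ρ Z (dual (conjRes T Z hTZ) t χ) := by
  intro z
  rw [dual_apply, ← map_smul, ← hw, conjRes_val, InvMemClass.coe_inv, inv_inv,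
    ← Module.End.mul_apply, ← Module.End.mul_apply, ← map_mul, ← map_mul]
  congr 1
  group

/-- all members of the orbit of a nontrivial weight have a common stabiliser -/
theorem one_type [Finite A] [Finite H] (h : Setup b c p q φ ρ S) (Z T : Subgroup H)
    (hZ : ∀ a, ∀ x ∈ Z, φ a x ∈ Z) (hT : ∀ a, ∀ x ∈ T, φ a x ∈ T)
    (hTZ : ∀ t ∈ T, ∀ x ∈ Z, t * x * t⁻¹ ∈ Z) (hcard : (Nat.card Z : K) ≠ 0)
    {χ : Z →* Kˣ} {w : U} (hw : w ∈ wspace ρ Z χ) (hw0 : w ≠ 0) (hχ : χ ≠ 1) :
    ∃ g : A, g ≠ 1 ∧ ∀ t : T, dual (resAut φ Z hZ) g (dual (conjRes T Z hTZ) t χ) =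
      dual (conjRes T Z hTZ) t χ := by
  classical
  set DA : A →* MulAut (Z →* Kˣ) := dual (resAut φ Z hZ)
  set DT : T →* MulAut (Z →* Kˣ) := dual (conjRes T Z hTZ)
  set φT := resAut φ T hT
  have hc : ∀ a t (ψ : Z →* Kˣ), DA a (DT t ψ) = DT (φT a t) (DA a ψ) :=
    fun a t ψ => dual_compat Z T hZ hT hTZ a t ψ
  obtain ⟨g, hg1, hg⟩ := h.exists_stab Z hZ hcard hw hw0
  refine ⟨g, hg1, fun t => ?_⟩
  have hwt : ρ (t : H) w ≠ 0 := fun h0 => hw0 (by
    rw [← end_apply_inv ρ (t : H) w, h0, map_zero])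
  obtain ⟨g', hg1', hg'⟩ := h.exists_stab Z hZ hcard (wspace_conj Z T hTZ hw t) hwt
  let L : Subgroup A :=
    { carrier := {a | ∃ s, DA a χ = DT s χ}
      one_mem' := ⟨1, by rw [aut_one, aut_one]⟩
      mul_mem' := fun {x y} hx hy => by
        obtain ⟨s, hs⟩ := hx
        obtain ⟨s', hs'⟩ := hy
        exact ⟨φT x s' * s, by rw [aut_mul, hs', hc, hs, aut_mul DT]⟩
      inv_mem' := fun {x} hx => by
        obtain ⟨s, hs⟩ := hx
        refine ⟨φT x⁻¹ s⁻¹, ?_⟩
        conv_lhs => rw [← aut_inv_apply DT s χ, ← hs, hc, aut_inv_apply] }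
  have hgL : g ∈ L := ⟨1, by rw [aut_one]; exact hg⟩
  have hg'L : g' ∈ L := by
    refine ⟨φT g' t⁻¹ * t, ?_⟩
    rw [aut_mul]
    conv_lhs => rw [← aut_inv_apply DT t χ, hc]
    exact congrArg _ hg'
  by_cases hL : L = ⊤
  · exfalso
    apply hχ
    obtain ⟨s, hs⟩ := exists_fixed_member h.pq ((autPerm (Z →* Kˣ)).comp DT)
      ((autPerm (Z →* Kˣ)).comp DA) φT hc (h.cop_sub T) χ
      (fun a => (hL.symm ▸ mem_top a : a ∈ L))
    have h1 := h.char_fixed_trivial Z hZ (DT s χ) hs
    rw [← aut_inv_apply DT s χ, h1, map_one]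
  · have h1 := h.pq.proper_eq hL hgL hg1
    have h2 := h.pq.proper_eq hL hg'L hg1'
    exact fixed_zpowers DA hg' g ((h1.symm.trans h2) ▸ mem_zpowers g)

end Setup

end Cfsg.Agent.PQAct
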