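import Cfsg.Agent.PQAct.Thm2
import Cfsg.Agent.FGS73.WardMain
import Cfsg.Agent.FGS73.SGMain

/-!
Fixed-point-free actions of nonabelian groups of order `p * q` on solvable groups: Fitting height
at most two; for `Sym 3` the derived subgroup is nilpotent.
-/

set_option autoImplicit false
set_option linter.style.haveILetI false
set_option linter.unusedSectionVars false

namespace Cfsg.Agent.PQAct

open Subgroup
open scoped TensorProduct IsMulCommutative

universe u

variable {A : Type*} [Group A]

/-- automorphisms as endomorphisms -/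
def autToEnd (G : Type*) [Group G] : MulAut G →* Monoid.End G where
  toFun e := e.toMonoidHom
  map_one' := rfl
  map_mul' _ _ := rfl

/-- an action by endomorphisms is by automorphisms -/
def autOfEnd {X : Type*} [Group X] (ψ : A →* Monoid.End X) : A →* MulAut X where
  toFun a :=
    { toFun := ψ a
      invFun := ψ a⁻¹
      left_inv := fun x => by rw [← FGS73.act_mul, inv_mul_cancel, FGS73.act_one]
      right_inv := fun x => by rw [← FGS73.act_mul, mul_inv_cancel, FGS73.act_one]
      map_mul' := map_mul (ψ a) }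
  map_one' := MulEquiv.ext fun x => FGS73.act_one ψ x
  map_mul' a a' := MulEquiv.ext fun x => FGS73.act_mul ψ a a' x

variable [Finite A] {b c : A} {p q : ℕ}

theorem quot_fixed (hpq : PQ b c p q) {G : Type*} [Group G] [Finite G]
    (hcop : (Nat.card G).Coprime (p * q)) (φ : A →* MulAut G)
    (hfix : ∀ x, (∀ a, φ a x = x) → x = 1) (N : Subgroup G) [N.Normal]
    (hN : ∀ a, ∀ x ∈ N, φ a x ∈ N) :
    ∀ x, (∀ a, autOfEnd (FGS73.quotAct ((autToEnd G).comp φ) N hN) a x = x) → x = 1 := by
  haveI := hpq.isSolvable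
  intro x hx
  obtain ⟨g, rfl⟩ := QuotientGroup.mk'_surjective N x
  obtain ⟨n, hn, hfn⟩ := exists_fixed_coset φ ⊤ N (fun a _ => hN a)
    (hpq.coprime_subgroup (hcop.coprime_dvd_left N.card_subgroup_dvd_card) _)
    (Or.inl inferInstance) g (fun a _ => QuotientGroup.eq.1 (hx a).symm)
  rw [QuotientGroup.mk'_apply, QuotientGroup.eq_one_iff]
  have h1 : g * n = 1 := hfix _ fun a => hfn a (mem_top a)
  rw [eq_inv_of_mul_eq_one_left h1]
  exact inv_mem hn

/-- the linear setting attached to a minimal invariant normal subgroup -/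
theorem with_setup (hpq : PQ b c p q) {G : Type u} [Group G] [Finite G]
    (_hsol : Group.IsSolvable G) (hcop : (Nat.card G).Coprime (p * q)) (φ : A →* MulAut G)
    (hfix : ∀ x, (∀ a, φ a x = x) → x = 1) (V : Subgroup G) [V.Normal] {l : ℕ} (hl : l.Prime)
    (hV : FGS73.IsAbInv (Set.range fun a => ((autToEnd G).comp φ a : G →* G)) V)
    (hexp : ∀ x ∈ V, x ^ l = 1)
    (hmin : ∀ U ≤ V, U.Normal →
      (∀ s ∈ Set.range (fun a => ((autToEnd G).comp φ a : G →* G)), ∀ x ∈ U, s x ∈ U) →
      U = ⊥ ∨ U = V) {C : Prop}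
    (k : ∀ (φ' : A →* MulAut (G ⧸ centralizer (V : Set G))) (K : Type) [Field K] [IsAlgClosed K]
      (U : Type u) [AddCommGroup U] [Module K U] [FiniteDimensional K U]
      (ρ : G ⧸ centralizer (V : Set G) →* Module.End K U) (S : A →* Module.End K U),
      Setup b c p q φ' ρ S → (∀ r : ℕ, r.Prime → r ≠ l → (r : K) ≠ 0) →
      Cfsg.pCore l (G ⧸ centralizer (V : Set G)) = ⊥ → C) : C := by
  classical
  haveI : IsMulCommutative V := ⟨⟨fun x y => Subtype.ext (hV.comm x x.2 y y.2)⟩⟩
  haveI := Fact.mk hl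
  haveI : Finite (Additive V) := inferInstanceAs (Finite V)
  let ψ := (autToEnd G).comp φ
  have hVs : ∀ a, ∀ x ∈ V, ψ a x ∈ V := fun a => hV.inv _ ⟨a, rfl⟩
  have hCs := FGS73.centralizer_act_invariant ψ V hVs
  let φ' := autOfEnd (FGS73.quotAct ψ (centralizer (V : Set G)) hCs)
  have hWl : ∀ w : Additive V, l • w = 0 := fun w =>
    FGS73.additive_ext V (by simpa using hexp _ w.toMul.2)
  haveI : Module (ZMod l) (Additive V) := AddCommGroup.zmodModule hWl
  haveI : Module.Finite (ZMod l) (Additive V) := Module.Finite.of_finite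
  let W := Additive V
  let K := AlgebraicClosure (ZMod l)
  let lin : AddMonoid.End W →* Module.End (ZMod l) W := FGS73.toZModEnd l W
  let bc : Module.End (ZMod l) W →* Module.End K (K ⊗[ZMod l] W) :=
    (Module.End.baseChangeHom (ZMod l) K W).toRingHom.toMonoidHom
  let ρ0 := FGS73.conjQuot V
  let S0 := FGS73.actOn V ψ hVs
  let ρ : G ⧸ centralizer (V : Set G) →* Module.End K (K ⊗[ZMod l] W) := bc.comp (lin.comp ρ0)
  let S : A →* Module.End K (K ⊗[ZMod l] W) := bc.comp (lin.comp S0)
  have hbcinj : ∀ f g : AddMonoid.End W, bc (lin f) = bc (lin g) → f = g := by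
    intro f g hfg
    refine AddMonoidHom.ext fun w => ?_
    have h1 := LinearMap.congr_fun hfg ((1 : K) ⊗ₜ[ZMod l] w)
    change (1 : K) ⊗ₜ[ZMod l] f w = (1 : K) ⊗ₜ[ZMod l] g w at h1
    let bas := Module.Free.chooseBasis (ZMod l) W
    refine bas.repr.injective (Finsupp.ext fun i => ?_)
    have h2 := congrArg (fun x => (Module.Basis.baseChange K bas).repr x i) h1
    simp only [Module.Basis.baseChange_repr_tmul] at h2
    simp only [Algebra.smul_def, mul_one] at h2
    exact (algebraMap (ZMod l) K).injective h2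
  have hlV : l ∣ Nat.card V := by
    obtain ⟨v, hv⟩ := Subgroup.ne_bot_iff_exists_ne_one.1 hV.ne_bot
    have h1 : orderOf v = l := orderOf_eq_prime (Subtype.ext (by simpa using hexp v v.2)) hv
    exact h1 ▸ orderOf_dvd_natCard v
  have hlpq : ¬ l ∣ p * q := fun hd => hl.not_dvd_one
    (hcop ▸ Nat.dvd_gcd (hlV.trans V.card_subgroup_dvd_card) hd)
  have hK : ∀ r : ℕ, r.Prime → r ≠ l → (r : K) ≠ 0 := fun r hr hne h0 =>
    hne ((Nat.prime_dvd_prime_iff_eq hl hr).1 ((CharP.cast_eq_zero_iff K l r).1 h0)).symm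
  have hWfix : ∀ w, (∀ a, S0 a w = w) → w = 0 := fun w hw => FGS73.additive_ext V
    (hfix _ fun a => congrArg (fun u : Additive V => (u.toMul : G)) (hw a))
  cases nonempty_fintype A
  refine k φ' K (K ⊗[ZMod l] W) ρ S
    { pq := hpq
      cop := hcop.coprime_dvd_left (Subgroup.card_quotient_dvd_card _)
      fix := quot_fixed hpq hcop φ hfix _ hCs
      compat := fun a x v => ?_
      wfix := fun v hv => ?_
      inj := fun x y hxy => FGS73.conjQuot_injective V (hbcinj _ _ hxy)
      pK := hK p hpq.hp fun h => hlpq (h ▸ dvd_mul_right p q)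
      qK := hK q hpq.hq fun h => hlpq (h ▸ dvd_mul_left q p) } hK ?_
  · obtain ⟨g, rfl⟩ := QuotientGroup.mk'_surjective (centralizer (V : Set G)) x
    have h1 : lin (S0 a) * lin (ρ0 (QuotientGroup.mk' _ g)) =
        lin (ρ0 (φ' a (QuotientGroup.mk' _ g))) * lin (S0 a) :=
      LinearMap.ext fun w => FGS73.endOn_conjQuot V (ψ a) (hVs a) g w
    have h2 := congrArg bc h1
    rw [map_mul, map_mul] at h2
    exact LinearMap.congr_fun h2 v
  · have hsum : ∑ a : A, lin (S0 a) = 0 := by
      refine LinearMap.ext fun w => ?_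
      rw [LinearMap.sum_apply, LinearMap.zero_apply]
      refine hWfix _ fun a' => ?_
      rw [map_sum]
      change ∑ a : A, S0 a' (S0 a w) = ∑ a : A, S0 a w
      refine Eq.trans (Finset.sum_congr rfl fun a _ => ?_)
        (Equiv.sum_comp (Equiv.mulLeft a') (fun a => S0 a w))
      exact (FGS73.end_mul_apply S0 a' a w).symm
    have h1 : (Module.End.baseChangeHom (ZMod l) K W) (∑ a : A, lin (S0 a)) v = 0 := by
      rw [hsum, map_zero, LinearMap.zero_apply]
    rw [map_sum, LinearMap.sum_apply] at h1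
    have h2 : ∑ a : A, S a v = 0 := h1
    rw [Finset.sum_congr rfl (fun a _ => hv a), Finset.sum_const, Finset.card_univ,
      ← Nat.card_eq_fintype_card, hpq.card, ← Nat.cast_smul_eq_nsmul K, Nat.cast_mul] at h2
    exact (smul_eq_zero.1 h2).resolve_left (mul_ne_zero
      (hK p hpq.hp fun h => hlpq (h ▸ dvd_mul_right p q))
      (hK q hpq.hq fun h => hlpq (h ▸ dvd_mul_left q p)))
  · set H := G ⧸ centralizer (V : Set G)
    have hW1 : ∃ w : W, w ≠ 0 := by
      obtain ⟨v, hv⟩ := Subgroup.ne_bot_iff_exists_ne_one.1 hV.ne_bot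
      exact ⟨Additive.ofMul v, fun h => hv h⟩
    refine FGS73.eq_bot_of_exponent_fixed hWl hW1 ρ0 _ (FGS73.isPGroup_pCore H) ?_ ?_
    · intro h
      rw [eq_bot_iff]
      intro x hx
      exact mem_bot.2 (FGS73.conjQuot_injective V (by rw [h x hx, map_one]))
    · intro U hU
      have hUρ : ∀ x, ∀ w ∈ U, ρ0 x w ∈ U := by
        intro x w hw
        rw [hU] at hw ⊢
        intro y hy
        rw [← FGS73.end_mul_apply, show y * x = x * (x⁻¹ * y * x) by group, FGS73.end_mul_apply,
          hw _ (by have h9 := (inferInstance : (Cfsg.pCore l H).Normal).conj_mem y hy x⁻¹; rwa [inv_inv] at h9)]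
      have hUS : ∀ a, ∀ w ∈ U, S0 a w ∈ U := by
        intro a w hw
        rw [hU] at hw ⊢
        intro y hy
        obtain ⟨g, hg⟩ := QuotientGroup.mk'_surjective (centralizer (V : Set G)) (φ' a⁻¹ y)
        have hy' : φ' a⁻¹ y ∈ Cfsg.pCore l H :=
          Subgroup.characteristic_iff_map_eq.1 (inferInstance : (Cfsg.pCore l H).Characteristic)
            (φ' a⁻¹) ▸ ⟨y, hy, rfl⟩
        rw [← hg] at hy'
        have h1 : S0 a (ρ0 (QuotientGroup.mk' _ g) w) =
            ρ0 (φ' a (QuotientGroup.mk' _ g)) (S0 a w) :=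
          FGS73.endOn_conjQuot V (ψ a) (hVs a) g w
        rw [hw _ hy', hg, aut_apply_inv] at h1
        exact h1.symm
      let U' : Subgroup G := (AddSubgroup.toSubgroup U).map V.subtype
      have hmem : ∀ v : V, (v : G) ∈ U' ↔ Additive.ofMul v ∈ U := by
        intro v
        constructor
        · rintro ⟨w, hw, hwv⟩
          obtain rfl : w = v := Subtype.ext hwv
          exact hw
        · exact fun h => ⟨v, h, rfl⟩
      have hU'V : U' ≤ V := by
        rintro _ ⟨w, -, rfl⟩
        exact w.2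
      have hn : U'.Normal := by
        constructor
        intro x hx g
        obtain ⟨v, hv, rfl⟩ := hx
        have h2 := (hmem _).2 (hUρ (QuotientGroup.mk' _ g) _ hv)
        exact (FGS73.conjQuot_val V g (Additive.ofMul v)) ▸ h2
      rcases hmin U' hU'V hn (by
        rintro _ ⟨a, rfl⟩ x ⟨v, hv, rfl⟩
        exact (hmem _).2 (hUS a _ hv)) with h | h
      · refine Or.inl ((AddSubgroup.eq_bot_iff_forall U).2 fun w hw => ?_)
        have h1 : (w.toMul : G) ∈ U' := (hmem _).2 hw
        rw [h, mem_bot] at h1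
        exact FGS73.additive_ext V h1
      · refine Or.inr (eq_top_iff.2 fun w _ => ?_)
        exact (hmem _).1 (h.symm ▸ w.toMul.2)

theorem exists_nilpotent_lcs (hpq : PQ b c p q) (n : ℕ) : ∀ (G : Type u) [Group G] [Finite G],
    Nat.card G ≤ n → Group.IsSolvable G → (Nat.card G).Coprime (p * q) → ∀ φ : A →* MulAut G,
      (∀ x : G, (∀ a, φ a x = x) → x = 1) →
        ∃ k, Group.IsNilpotent ((⊤ : Subgroup G).lowerCentralSeries k) := by
  induction n with
  | zero =>
    intro G _ _ h
    exact absurd h (by simp [Nat.card_pos.ne'])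
  | succ n ih =>
    intro G _ _ hn hG hcop φ hfix
    rcases subsingleton_or_nontrivial G with hs | hs
    · exact ⟨0, inferInstance⟩
    obtain ⟨V, r, hr, hV, hexpV, hmin⟩ :=
      FGS73.exists_minimal_isAbInv hG (Set.range fun a => ((autToEnd G).comp φ a : G →* G))
    haveI := hV.normal
    have hVs : ∀ a, ∀ x ∈ V, φ a x ∈ V := fun a => hV.inv _ ⟨a, rfl⟩
    haveI hQ : Group.IsNilpotent (G ⧸ centralizer (V : Set G)) :=
      with_setup hpq hG hcop φ hfix V hr hV hexpV hmin
        fun φ' K _ _ U _ _ _ ρ S h hK hcore =>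
          h.isNilpotent (FGS73.isSolvable_quotient hG _) r hK hcore
    obtain ⟨m, hm⟩ := Subgroup.nilpotent_iff_lowerCentralSeries.1 hQ
    obtain ⟨k, hk⟩ := ih (G ⧸ V) (by have := FGS73.card_quotient_lt V hV.ne_bot; omega)
      (FGS73.isSolvable_quotient hG V)
      (hcop.coprime_dvd_left (Subgroup.card_quotient_dvd_card _))
      (autOfEnd (FGS73.quotAct ((autToEnd G).comp φ) V hVs)) (quot_fixed hpq hcop φ hfix V hVs)
    refine ⟨max m k, ?_⟩
    set L := (⊤ : Subgroup G).lowerCentralSeries (max m k)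
    have hLC : L ≤ centralizer (V : Set G) := by
      rw [← QuotientGroup.ker_mk' (centralizer (V : Set G)), ← Subgroup.map_eq_bot_iff,
        map_lowerCentralSeries, ← MonoidHom.range_eq_map,
        MonoidHom.range_eq_top.2 (QuotientGroup.mk'_surjective _), ← le_bot_iff, ← hm]
      exact Subgroup.lowerCentralSeries_antitone _ (le_max_left m k)
    let L' := (⊤ : Subgroup (G ⧸ V)).lowerCentralSeries (max m k)
    haveI : Group.IsNilpotent L' :=
      Cfsg.Agent.Fitting.isNilpotent_of_le hk (Subgroup.lowerCentralSeries_antitone _ (le_max_right m k))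
    have hmap : ∀ x : L, QuotientGroup.mk' V x ∈ L' := by
      intro x
      have h1 : L.map (QuotientGroup.mk' V) = L' := by
        rw [map_lowerCentralSeries, ← MonoidHom.range_eq_map,
          MonoidHom.range_eq_top.2 (QuotientGroup.mk'_surjective _)]
      exact h1 ▸ ⟨x, x.2, rfl⟩
    apply Subgroup.isNilpotent_of_ker_le_center
      (((QuotientGroup.mk' V).comp L.subtype).codRestrict _ hmap)
    intro x hx
    have hxV : (x : G) ∈ V := (QuotientGroup.eq_one_iff _).1 (congrArg Subtype.val hx)
    rw [mem_center_iff]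
    intro y
    exact Subtype.ext (mem_centralizer_iff.1 (hLC y.2) x hxV).symm

theorem fitting_height_two (hpq : PQ b c p q) {G : Type u} [Group G] [Finite G]
    (hG : Group.IsSolvable G) (hcop : (Nat.card G).Coprime (p * q)) (φ : A →* MulAut G)
    (hfix : ∀ x : G, (∀ a, φ a x = x) → x = 1) :
    ∃ F : Subgroup G, ∃ _ : F.Normal, Group.IsNilpotent F ∧ Group.IsNilpotent (G ⧸ F) := by
  obtain ⟨k, hk⟩ := exists_nilpotent_lcs hpq (Nat.card G) G le_rfl hG hcop φ hfix
  refine ⟨(⊤ : Subgroup G).lowerCentralSeries k, inferInstance, hk, ?_⟩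
  refine Subgroup.nilpotent_iff_lowerCentralSeries.2 ⟨k, ?_⟩
  have h1 := congrArg (fun S : Subgroup (G ⧸ _) => S) (Subgroup.map_eq_bot_iff
    (f := QuotientGroup.mk' ((⊤ : Subgroup G).lowerCentralSeries k))
    (H := (⊤ : Subgroup G).lowerCentralSeries k) |>.2 (QuotientGroup.ker_mk' _).ge)
  rwa [map_lowerCentralSeries, ← MonoidHom.range_eq_map,
    MonoidHom.range_eq_top.2 (QuotientGroup.mk'_surjective _)] at h1

theorem nilpotent_commutator (hpq : PQ b c 3 2) (n : ℕ) : ∀ (G : Type u) [Group G] [Finite G],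
    Nat.card G ≤ n → Group.IsSolvable G → (Nat.card G).Coprime (3 * 2) → ∀ φ : A →* MulAut G,
      (∀ x : G, (∀ a, φ a x = x) → x = 1) → Group.IsNilpotent (commutator G) := by
  induction n with
  | zero =>
    intro G _ _ h
    exact absurd h (by simp [Nat.card_pos.ne'])
  | succ n ih =>
    intro G _ _ hn hG hcop φ hfix
    rcases subsingleton_or_nontrivial G with hs | hs
    · infer_instance
    obtain ⟨V, r, hr, hV, hexpV, hmin⟩ :=
      FGS73.exists_minimal_isAbInv hG (Set.range fun a => ((autToEnd G).comp φ a : G →* G))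
    haveI := hV.normal
    have hVs : ∀ a, ∀ x ∈ V, φ a x ∈ V := fun a => hV.inv _ ⟨a, rfl⟩
    have hQ : ∀ x y : G ⧸ centralizer (V : Set G), x * y = y * x :=
      with_setup hpq hG hcop φ hfix V hr hV hexpV hmin
        fun φ' K _ _ U _ _ _ ρ S h hK hcore =>
          h.commutative (FGS73.isSolvable_quotient hG _) r hK hcore
    haveI hk := ih (G ⧸ V) (by have := FGS73.card_quotient_lt V hV.ne_bot; omega)
      (FGS73.isSolvable_quotient hG V)
      (hcop.coprime_dvd_left (Subgroup.card_quotient_dvd_card _))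
      (autOfEnd (FGS73.quotAct ((autToEnd G).comp φ) V hVs)) (quot_fixed hpq hcop φ hfix V hVs)
    have hLC : commutator G ≤ centralizer (V : Set G) := by
      rw [commutator_def, Subgroup.commutator_le]
      intro x _ y _
      rw [← QuotientGroup.eq_one_iff, ← QuotientGroup.mk'_apply, map_commutatorElement,
        commutatorElement_eq_one_iff_mul_comm]
      exact hQ _ _
    have hmap : ∀ x : commutator G, QuotientGroup.mk' V x ∈ commutator (G ⧸ V) := by
      intro x
      have h1 : (commutator G).map (QuotientGroup.mk' V) = commutator (G ⧸ V) := by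
        rw [commutator_def, commutator_def, map_commutator, ← MonoidHom.range_eq_map,
          MonoidHom.range_eq_top.2 (QuotientGroup.mk'_surjective _)]
      exact h1 ▸ ⟨x, x.2, rfl⟩
    apply Subgroup.isNilpotent_of_ker_le_center
      (((QuotientGroup.mk' V).comp (commutator G).subtype).codRestrict _ hmap)
    intro x hx
    have hxV : (x : G) ∈ V := (QuotientGroup.eq_one_iff _).1 (congrArg Subtype.val hx)
    rw [mem_center_iff]
    intro y
    exact Subtype.ext (mem_centralizer_iff.1 (hLC y.2) x hxV).symm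

end Cfsg.Agent.PQAct
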