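import Cfsg.Agent.PQAct.Thm1
import Cfsg.Agent.Lib.Fitting

/-!
A solvable group in the linear setting is nilpotent.
-/

set_option autoImplicit false
set_option linter.style.haveILetI false
set_option linter.unusedSectionVars false

namespace Cfsg.Agent.PQAct

open Subgroup

variable {A : Type*} [Group A] {H : Type*} [Group H] {K : Type*} [Field K] {U : Type*}
  [AddCommGroup U] [Module K U]

theorem eq_top_of_forall_sylow_le {G : Type*} [Group G] [Finite G] (N : Subgroup G)
    (h : ∀ (r : ℕ), r.Prime → ∃ P : Sylow r G, (P : Subgroup G) ≤ N) : N = ⊤ := by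
  rw [← Subgroup.index_eq_one]
  by_contra hne
  obtain ⟨r, hr, hd⟩ := Nat.exists_prime_and_dvd hne
  haveI := Fact.mk hr
  obtain ⟨P, hP⟩ := h r hr
  exact P.not_dvd_index (hd.trans (Subgroup.index_dvd_of_le hP))

namespace Setup

variable {b c : A} {p q : ℕ} {φ : A →* MulAut H} {ρ : H →* Module.End K U}
  {S : A →* Module.End K U}

theorem isNilpotent [Finite A] [Finite H] [IsAlgClosed K] [FiniteDimensional K U]
    (h : Setup b c p q φ ρ S) (hsol : Group.IsSolvable H) (l : ℕ)
    (hK : ∀ r : ℕ, r.Prime → r ≠ l → (r : K) ≠ 0) (hcore : Cfsg.pCore l H = ⊥) :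
    Group.IsNilpotent H := by
  classical
  haveI := hsol
  -- every Sylow subgroup centralises the cores for the other primes
  have key : ∀ (t r : ℕ), t.Prime → r.Prime → r ≠ t → ∀ T : Sylow t H,
      (T : Subgroup H) ≤ centralizer (Cfsg.pCore r H : Set H) := by
    intro t r ht hr hrt T
    haveI := Fact.mk ht
    haveI := Fact.mk hr
    by_cases hrl : r = l
    · subst hrl
      intro s _
      rw [mem_centralizer_iff]
      intro x hx
      rw [hcore] at hx
      rw [mem_bot.1 hx, one_mul, mul_one]
    obtain ⟨T₀, hT₀⟩ := Cfsg.Agent.Coprime.exists_invariant_sylow_hom φ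
      (h.pq.card.symm ▸ h.cop.symm) (Or.inr hsol) t
    have hcen := h.centralize hr ht hrt (hK r hr hrl) (Cfsg.pCore r H) T₀
      (Fitting.pCore_isPGroup r) T₀.2
      (fun a x hx => Subgroup.characteristic_iff_map_eq.1
        (inferInstance : (Cfsg.pCore r H).Characteristic) (φ a) ▸ ⟨x, hx, rfl⟩)
      hT₀ (fun s _ x hx => (inferInstance : (Cfsg.pCore r H).Normal).conj_mem x hx s)
    have h0 : (T₀ : Subgroup H) ≤ centralizer (Cfsg.pCore r H : Set H) := fun s hs =>
      mem_centralizer_iff.2 fun x hx => (hcen s hs x hx).symm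
    obtain ⟨g, hg⟩ := MulAction.exists_smul_eq H T₀ T
    intro s hs
    rw [← hg] at hs
    obtain ⟨u, hu, rfl⟩ := hs
    exact (inferInstance : (centralizer (Cfsg.pCore r H : Set H)).Normal).conj_mem u (h0 hu) g
  set F := Cfsg.fittingSubgroup H with hF
  have hFle : ∀ x : H, (∀ r : ℕ, r.Prime → x ∈ centralizer (Cfsg.pCore r H : Set H)) → x ∈ F := by
    intro x hx
    refine Fitting.centralizer_fitting_le ?_
    rw [mem_centralizer_iff]
    intro f hf
    have hle : (⨆ r : Nat.Primes, Cfsg.pCore (r : ℕ) H) ≤ centralizer {x} := by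
      refine iSup_le fun r y hy => ?_
      rw [mem_centralizer_singleton_iff]
      exact mem_centralizer_iff.1 (hx r r.2) y hy
    rw [SetLike.mem_coe, Fitting.fitting_eq_iSup_pCore] at hf
    exact mem_centralizer_singleton_iff.1 (hle hf)
  refine (Group.isNilpotent_of_finite_tfae.out 0 3).mpr ?_
  intro t hft T
  have ht : t.Prime := hft.out
  set X : Subgroup H := (T : Subgroup H) ⊔ F with hX
  have hXn : normalizer (X : Set H) = ⊤ := by
    refine eq_top_of_forall_sylow_le _ fun r hr => ?_
    haveI := Fact.mk hr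
    rcases eq_or_ne r t with rfl | hrt
    · exact ⟨T, le_sup_left.trans le_normalizer⟩
    obtain ⟨P⟩ : Nonempty (Sylow r H) := inferInstance
    refine ⟨P, Cfsg.Agent.Coprime.le_normalizer_of_conj_mem fun s hs x hx => ?_⟩
    refine (show X ≤ X.comap (MulAut.conj s).toMonoidHom from ?_) hx
    rw [hX, sup_le_iff]
    constructor
    · intro u hu
      change s * u * s⁻¹ ∈ (T : Subgroup H) ⊔ F
      have h1 : s * u * s⁻¹ * u⁻¹ ∈ F := by
        refine hFle _ fun r' hr' => ?_
        have hn : (centralizer (Cfsg.pCore r' H : Set H)).Normal := inferInstance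
        rcases eq_or_ne r' r with rfl | hne
        · have hu' := key t r' ht hr' hrt T hu
          exact mul_mem (hn.conj_mem u hu' s) (inv_mem hu')
        · have hs' := key r r' hr hr' hne P hs
          have := mul_mem hs' (hn.conj_mem _ (inv_mem hs') u)
          simpa [mul_assoc] using this
      have h2 := mul_mem (Subgroup.mem_sup_right (S := (T : Subgroup H)) h1)
        (Subgroup.mem_sup_left (T := F) hu)
      simpa [mul_assoc] using h2
    · intro u hu
      exact Subgroup.mem_sup_right ((inferInstance : F.Normal).conj_mem u hu s)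
  haveI hXnormal : X.Normal := normalizer_eq_top_iff.1 hXn
  have hFT : F ≤ normalizer ((T : Subgroup H) : Set H) := by
    rw [hF, Fitting.fitting_eq_iSup_pCore]
    refine iSup_le fun r => ?_
    haveI : Fact (r : ℕ).Prime := ⟨r.2⟩
    by_cases hrt : (r : ℕ) = t
    · obtain ⟨r, hr⟩ := r
      subst hrt
      exact (Fitting.pCore_le_sylow T).trans le_normalizer
    · refine Cfsg.Agent.Coprime.le_normalizer_of_conj_mem fun x hx u hu => ?_
      rw [show x * u = u * x from mem_centralizer_iff.1 (key t r ht r.2 hrt T hu) x hx,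
        mul_inv_cancel_right]
      exact hu
  have hTX : (T : Subgroup H) ≤ X := le_sup_left
  haveI : (((T.subtype hTX : Sylow t X) : Subgroup X)).Normal := by
    rw [Sylow.coe_subtype]
    refine ⟨fun n hn g => ?_⟩
    have hg : (g : H) ∈ normalizer ((T : Subgroup H) : Set H) :=
      (sup_le le_normalizer hFT : X ≤ _) g.2
    exact (Subgroup.mem_normalizer_iff.1 hg n).1 hn
  haveI := (T.subtype hTX).characteristic_of_normal this
  have h1 := Fitting.normal_map_subtype_of_characteristic ((T.subtype hTX : Sylow t X) : Subgroup X)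
  rwa [Sylow.coe_subtype, Subgroup.map_subgroupOf_eq_of_le hTX] at h1

end Setup

end Cfsg.Agent.PQAct
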