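import Cfsg.Agent.PQAct.Linear
import Cfsg.Agent.FGS73.HH
import Cfsg.Agent.FGS73.SGLinear

/-!
The commutator pairing of a central character, and the Hall–Higman dichotomy for an element
fixing the character.
-/

set_option autoImplicit false
set_option linter.style.haveILetI false
set_option linter.unusedSectionVars false

namespace Cfsg.Agent.PQAct

open Subgroup
open scoped commutatorElement

variable {A : Type*} [Group A] {H : Type*} [Group H] {K : Type*} [Field K] {U : Type*}
  [AddCommGroup U] [Module K U]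

/-- commutators of `R` lie in the central subgroup `Z` -/
structure Class2 (R Z : Subgroup H) : Prop where
  le : Z ≤ R
  mem : ∀ y ∈ R, ∀ x ∈ R, y * x * y⁻¹ * x⁻¹ ∈ Z
  cen : ∀ z ∈ Z, ∀ x ∈ R, z * x = x * z

namespace Class2

variable {R Z : Subgroup H} {N : Type*} [CommGroup N]

/-- `ζ [y, x]` -/
def val (h : Class2 R Z) (ζ : Z →* N) (y x : R) : N :=
  ζ ⟨(y : H) * x * (y : H)⁻¹ * (x : H)⁻¹, h.mem y y.2 x x.2⟩

theorem val_mul_right (h : Class2 R Z) (ζ : Z →* N) (y x x' : R) :
    h.val ζ y (x * x') = h.val ζ y x * h.val ζ y x' := by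
  rw [val, val, val, ← map_mul]
  congr 1
  apply Subtype.ext
  have hc := h.cen _ (h.mem y y.2 x' x'.2) x x.2
  simp only [Subgroup.coe_mul, mul_inv_rev]
  calc (y : H) * (x * x') * (y : H)⁻¹ * ((x' : H)⁻¹ * (x : H)⁻¹)
      = (y : H) * x * (y : H)⁻¹ * (((y : H) * x' * (y : H)⁻¹ * (x' : H)⁻¹) * (x : H)⁻¹) := by group
    _ = (y : H) * x * (y : H)⁻¹ * ((x : H)⁻¹ * (x : H) *
          (((y : H) * x' * (y : H)⁻¹ * (x' : H)⁻¹) * (x : H)⁻¹)) := by group
    _ = (y : H) * x * (y : H)⁻¹ * ((x : H)⁻¹ *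
          ((((y : H) * x' * (y : H)⁻¹ * (x' : H)⁻¹) * x) * (x : H)⁻¹)) := by rw [hc]; group
    _ = _ := by group

theorem val_mul_left (h : Class2 R Z) (ζ : Z →* N) (y y' x : R) :
    h.val ζ (y * y') x = h.val ζ y x * h.val ζ y' x := by
  rw [val, val, val, mul_comm (ζ _), ← map_mul]
  congr 1
  apply Subtype.ext
  have hc := h.cen _ (h.mem y' y'.2 x x.2) y y.2
  simp only [Subgroup.coe_mul, mul_inv_rev]
  calc (y : H) * y' * x * ((y' : H)⁻¹ * (y : H)⁻¹) * (x : H)⁻¹
      = (y : H) * ((y' : H) * x * (y' : H)⁻¹ * (x : H)⁻¹) * (x * (y : H)⁻¹ * (x : H)⁻¹) := by group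
    _ = _ := by rw [← hc]; group

/-- the pairing -/
def pairing (h : Class2 R Z) (ζ : Z →* N) : R →* (R →* N) :=
  MonoidHom.mk' (fun y => MonoidHom.mk' (h.val ζ y) (h.val_mul_right ζ y)) fun y y' =>
    MonoidHom.ext fun x => h.val_mul_left ζ y y' x

theorem pairing_apply (h : Class2 R Z) (ζ : Z →* N) (y x : R) :
    h.pairing ζ y x = ζ ⟨(y : H) * x * (y : H)⁻¹ * (x : H)⁻¹, h.mem y y.2 x x.2⟩ := rfl

theorem pairing_self (h : Class2 R Z) (ζ : Z →* N) (y : R) : h.pairing ζ y y = 1 := by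
  rw [pairing_apply, ← map_one ζ]
  congr 1
  exact Subtype.ext (by simp)

theorem pairing_swap (h : Class2 R Z) (ζ : Z →* N) (y x : R) :
    h.pairing ζ x y = (h.pairing ζ y x)⁻¹ := by
  rw [pairing_apply, pairing_apply, ← map_inv]
  congr 1
  exact Subtype.ext (by simp [mul_assoc])

theorem pairing_Z (h : Class2 R Z) (ζ : Z →* N) (y z : R) (hz : (z : H) ∈ Z) :
    h.pairing ζ y z = 1 := by
  rw [pairing_apply, ← map_one ζ]
  congr 1
  refine Subtype.ext ?_
  change (y : H) * z * (y : H)⁻¹ * (z : H)⁻¹ = 1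
  rw [← h.cen _ hz y y.2]
  group

theorem pairing_act (h : Class2 R Z) (ζ : Z →* N) (φ : A →* MulAut H)
    (hR : ∀ a, ∀ x ∈ R, φ a x ∈ R) (hZ : ∀ a, ∀ x ∈ Z, φ a x ∈ Z) {a : A}
    (ha : dual (resAut φ Z hZ) a ζ = ζ) (y x : R) :
    h.pairing ζ (resAut φ R hR a y) (resAut φ R hR a x) = h.pairing ζ y x := by
  rw [pairing_apply, pairing_apply]
  conv_rhs => rw [← (dual_eq_iff _ a ζ).1 ha]
  congr 1
  apply Subtype.ext
  simp only [resAut_val, map_mul, map_inv]

end Class2

theorem hh_arith {r h d m : ℕ} (hr : r.Prime) (hh : h.Prime) (hd : d ^ 2 = r ^ m) (hm : m ≠ 0)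
    (hdvd : h ∣ r ^ m - 1) (hle : d ≤ h - 1) :
    r = 2 ∧ ∃ k, 1 ≤ k ∧ h = 2 ^ k + 1 ∧ r ^ m = 2 ^ (2 * k) := by
  have hd0 : d ∣ r ^ m := hd ▸ dvd_pow_self d two_ne_zero
  obtain ⟨j, -, rfl⟩ := (Nat.dvd_prime_pow hr).1 hd0
  rw [← pow_mul] at hd
  have hj2 : j * 2 = m := Nat.pow_right_injective hr.two_le hd
  have hj : j ≠ 0 := by omega
  have hr2 : 2 ≤ r ^ j := le_trans hr.two_le (Nat.le_self_pow hj r)
  have hfac : r ^ m - 1 = (r ^ j + 1) * (r ^ j - 1) := by
    rw [← hj2, pow_mul, ← Nat.sq_sub_sq, one_pow]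
  rw [hfac] at hdvd
  rcases hh.dvd_mul.1 hdvd with h1 | h1
  · have h2 := Nat.le_of_dvd (by omega) h1
    have hh' : h = r ^ j + 1 := by omega
    have hodd : Odd h := hh.odd_of_ne_two (by omega)
    have heven : Even (r ^ j) := by
      rw [hh', Nat.odd_iff] at hodd
      rw [Nat.even_iff]
      omega
    have hr2' : r = 2 := (hr.even_iff).1 (Nat.even_pow.1 heven).1
    subst hr2'
    exact ⟨rfl, j, Nat.pos_of_ne_zero hj, hh', by rw [← hj2, mul_comm]⟩
  · have := Nat.le_of_dvd (by omega) h1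
    omega

namespace Setup

variable {b c : A} {p q : ℕ} {φ : A →* MulAut H} {ρ : H →* Module.End K U}
  {S : A →* Module.End K U}

/-- The Hall–Higman dichotomy. -/
theorem hh [Finite A] [Finite H] [IsAlgClosed K] [FiniteDimensional K U]
    (h : Setup b c p q φ ρ S) {R Z : Subgroup H} (h2 : Class2 R Z) {r : ℕ} [Fact r.Prime]
    (hR : IsPGroup r R) (hrK : (r : K) ≠ 0) (hRi : ∀ a, ∀ x ∈ R, φ a x ∈ R)
    (hZi : ∀ a, ∀ x ∈ Z, φ a x ∈ Z) {ζ : Z →* Kˣ} {w₀ : U} (hw₀ : w₀ ∈ wspace ρ Z ζ)
    (hw₀0 : w₀ ≠ 0) {g : A} (hg1 : g ≠ 1) (hg : dual (resAut φ Z hZi) g ζ = ζ)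
    (hstab : ∀ a, dual (resAut φ Z hZi) a ζ = ζ → a ∈ zpowers g) :
    (∀ y, h2.pairing ζ (resAut φ R hRi g y) = h2.pairing ζ y) ∨
      (r = 2 ∧ ∃ k, 1 ≤ k ∧ orderOf g = 2 ^ k + 1 ∧ Nat.card (Set.range fun y : R =>
        h2.pairing ζ (resAut φ R hRi g y) * (h2.pairing ζ y)⁻¹) = 2 ^ (2 * k)) := by
  classical
  cases nonempty_fintype A
  set β := h2.pairing ζ with hβ
  set σ := resAut φ R hRi g with hσ
  set n := orderOf g with hn
  have hnp : n.Prime := h.pq.orderOf_prime hg1
  have hnK : (n : K) ≠ 0 := by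
    rcases h.pq.orderOf_cases hg1 with h1 | h1 <;> rw [hn, h1]
    exacts [h.pK, h.qK]
  have hcardR : ∀ L : Subgroup R, (Nat.card L : K) ≠ 0 := by
    intro L
    obtain ⟨i, hi⟩ := IsPGroup.iff_card.1 (hR.to_subgroup L)
    rw [hi, Nat.cast_pow]
    exact pow_ne_zero _ hrK
  have hcardZ : (Nat.card Z : K) ≠ 0 := by
    obtain ⟨i, hi⟩ := IsPGroup.iff_card.1 (hR.to_le h2.le)
    rw [hi, Nat.cast_pow]
    exact pow_ne_zero _ hrK
  have hinvβ : ∀ y x, β (σ y) (σ x) = β y x := h2.pairing_act ζ φ hRi hZi hg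
  have hcoprime : ∀ (L : Subgroup A), (Nat.card L).Coprime (Nat.card R) := fun L =>
    h.pq.coprime_subgroup (h.cop_sub R) L
  have hnR : n.Coprime (Nat.card R) := by
    rw [hn, ← Nat.card_zpowers]; exact hcoprime _
  -- no `g`-fixed vector of weight `ζ`
  have hfix1 : ∀ w ∈ wspace ρ Z ζ, S g w = w → w = 0 := by
    intro w hw hgw
    refine eq_zero_of_orbit_sum Z hcardZ (h.pq.natCast_ne_zero h.pK h.qK)
      (dual (resAut φ Z hZi)) S (h.wspace_act Z hZi hw) (h.wfix _ fun a => ?_) fun x hx => ?_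
    · rw [map_sum]
      simp only [← Module.End.mul_apply, ← map_mul]
      exact Equiv.sum_comp (Equiv.mulLeft a) (fun x => S x w)
    · obtain ⟨i, rfl⟩ := (mem_powers_iff_mem_zpowers).2 (hstab x hx)
      induction i with
      | zero => simp
      | succ i ih =>
        simp only at hx ih ⊢
        rw [pow_succ, map_mul, Module.End.mul_apply, hgw]
        exact ih (by
          have h1 : dual (resAut φ Z hZi) (g ^ i) ζ = ζ :=
            fixed_zpowers _ hg _ (pow_mem (mem_zpowers g) i)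
          exact h1)
  -- the radical, `C` and `E`
  let rad : Subgroup R :=
    { carrier := {x | ∀ y, β y x = 1}
      one_mem' := fun y => map_one _
      mul_mem' := fun {a b} ha hb y => by rw [map_mul, ha y, hb y, one_mul]
      inv_mem' := fun {a} ha y => by rw [map_inv, ha y, inv_one] }
  let C : Subgroup R :=
    { carrier := {y | β (σ y) = β y}
      one_mem' := by
        change β (σ 1) = β 1
        rw [map_one σ]
      mul_mem' := fun {a b} ha hb => by
        simp only [Set.mem_ofPred_eq] at ha hb ⊢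
        rw [map_mul σ, map_mul β, map_mul β, ha, hb]
      inv_mem' := fun {a} ha => by
        simp only [Set.mem_ofPred_eq] at ha ⊢
        rw [map_inv σ, map_inv β, map_inv β, ha] }
  let E : Subgroup R :=
    { carrier := {x | ∀ y ∈ C, β y x = 1}
      one_mem' := fun y _ => map_one _
      mul_mem' := fun {a b} ha hb y hy => by rw [map_mul, ha y hy, hb y hy, one_mul]
      inv_mem' := fun {a} ha y hy => by rw [map_inv, ha y hy, inv_one] }
  have hradker : ∀ x, β x = 1 ↔ x ∈ rad := by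
    intro x
    constructor
    · intro hx y
      rw [h2.pairing_swap ζ x y, ← hβ, hx, MonoidHom.one_apply, inv_one]
    · intro hx
      refine MonoidHom.ext fun y => ?_
      rw [h2.pairing_swap ζ y x, ← hβ, hx y, inv_one, MonoidHom.one_apply]
  have hEgen : ∀ y, σ y * y⁻¹ ∈ E := by
    intro y u hu
    rw [map_mul, map_inv, mul_inv_eq_one]
    conv_lhs => rw [← (hu : β (σ u) = β u), hinvβ]
  have hEσ : ∀ x ∈ E, σ x ∈ E := by
    intro x hx u hu
    rw [← (hu : β (σ u) = β u), hinvβ, hx u hu]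
  -- the telescope
  have hσpow : ∀ i x, (⇑σ)^[i] x = resAut φ R hRi (g ^ i) x := by
    intro i x
    induction i with
    | zero => rw [pow_zero, aut_one]; rfl
    | succ i ih => rw [Function.iterate_succ_apply', ih, pow_succ', aut_mul]
  have hper : ∀ x, (⇑σ)^[n] x = x := fun x => by rw [hσpow, hn, pow_orderOf_eq_one, aut_one]
  let Pn : R → ℕ → R := fun y i => Nat.rec 1 (fun j acc => acc * (⇑σ)^[j] y) i
  have hPn0 : ∀ y, Pn y 0 = 1 := fun y => rfl
  have hPns : ∀ y i, Pn y (i + 1) = Pn y i * (⇑σ)^[i] y := fun y i => rfl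
  have hPC : ∀ y, Pn y n ∈ C := by
    intro y
    have h1 : ∀ i, β (σ (Pn y i)) * β y = β (Pn y i) * β ((⇑σ)^[i] y) := by
      intro i
      induction i with
      | zero => simp [hPn0]
      | succ i ih =>
        rw [hPns, map_mul σ, map_mul β, map_mul β, ← Function.iterate_succ_apply' (⇑σ),
          mul_right_comm, ih]
    have h3 := h1 n
    rw [hper] at h3
    exact mul_right_cancel h3
  have hPE : ∀ y ∈ E, Pn y n ∈ E := by
    intro y hy
    have h1 : ∀ i, (⇑σ)^[i] y ∈ E := by
      intro i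
      induction i with
      | zero => exact hy
      | succ i ih => rw [Function.iterate_succ_apply']; exact hEσ _ ih
    have h2 : ∀ i, Pn y i ∈ E := by
      intro i
      induction i with
      | zero => exact one_mem _
      | succ i ih => rw [hPns]; exact mul_mem ih (h1 i)
    exact h2 n
  have key : ∀ x, (∀ y, β (σ y) x = β y x) → (∀ y ∈ C, β y x = 1) → x ∈ rad := by
    intro x hx hC y
    have hit : ∀ i, β ((⇑σ)^[i] y) x = β y x := by
      intro i
      induction i with
      | zero => rfl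
      | succ i ih => rw [Function.iterate_succ_apply', hx, ih]
    have h1 : ∀ i, β (Pn y i) x = (β y x) ^ i := by
      intro i
      induction i with
      | zero => simp [hPn0]
      | succ i ih => rw [hPns, map_mul, MonoidHom.mul_apply, ih, hit, pow_succ]
    have h3 := h1 n
    rw [hC _ (hPC y)] at h3
    have h4 : (β y x) ^ Nat.card R = 1 := by rw [← map_pow, pow_card_eq_one', map_one]
    exact orderOf_eq_one_iff.1 (Nat.eq_one_of_dvd_coprimes hnR
      (orderOf_dvd_of_pow_eq_one h3.symm) (orderOf_dvd_of_pow_eq_one h4))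
  have hCE : ∀ u, u ∈ C → u ∈ E → u ∈ rad := by
    intro u huC huE
    refine key u (fun y => ?_) fun y hy => huE y hy
    rw [h2.pairing_swap ζ u (σ y), h2.pairing_swap ζ u y, ← hβ]
    congr 1
    conv_lhs => rw [← (huC : β (σ u) = β u), hinvβ]
  -- weights of the radical
  let ρR : R →* Module.End K U := ρ.comp R.subtype
  have hradZ : ∀ z : R, (z : H) ∈ Z → z ∈ rad := fun z hz y => h2.pairing_Z ζ y z hz
  let U1 := wspace ρ Z ζ
  have hU1 : ∀ x : R, ∀ w ∈ U1, ρR x w ∈ U1 := by
    intro x w hw z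
    rw [← map_smul, ← hw z]
    change ρ (z : H) (ρ (x : H) w) = ρ (x : H) (ρ (z : H) w)
    rw [← Module.End.mul_apply, ← Module.End.mul_apply, ← map_mul, ← map_mul,
      h2.cen z z.2 x x.2]
  have hcommop : ∀ z ∈ rad, ∀ x : R, ∀ w ∈ U1, ρR z (ρR x w) = ρR x (ρR z w) := by
    intro z hz x w hw
    have h1 : β z x = 1 := by
      rw [h2.pairing_swap ζ x z, ← hβ, hz x, inv_one]
    rw [h2.pairing_apply] at h1
    have h3 : z * x = ⟨(z : H) * x * (z : H)⁻¹ * (x : H)⁻¹, h2.le (h2.mem z z.2 x x.2)⟩ * (x * z) := by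
      apply Subtype.ext
      simp only [Subgroup.coe_mul]
      group
    rw [← Module.End.mul_apply, ← map_mul, h3, map_mul, map_mul, Module.End.mul_apply,
      Module.End.mul_apply]
    have h4 := hU1 x _ (hU1 z w hw) ⟨_, h2.mem z z.2 x x.2⟩
    rw [h1, Units.val_one, one_smul] at h4
    exact h4
  haveI : Finite rad := inferInstance
  cases nonempty_fintype rad
  haveI : Nontrivial U1 := ⟨⟨⟨w₀, hw₀⟩, 0, fun h0 => hw₀0 (congrArg Subtype.val h0)⟩⟩
  obtain ⟨f, w1, -, hw10, hf⟩ := FGS73.common_eigen (U := U1)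
    (fun z : rad => (ρR (z : R)).restrict (hU1 z))
    (fun a b => LinearMap.ext fun w => Subtype.ext (hcommop a a.2 b w w.2)) ⊤
    (fun h0 => (Submodule.eq_bot_iff _).1 h0 |> fun h1 => hw₀0
      (congrArg Subtype.val (h1 ⟨w₀, hw₀⟩ Submodule.mem_top)))
    (fun _ _ _ => Submodule.mem_top)
  have hf' : ∀ z : rad, ρR (z : R) (w1 : U) = f z • (w1 : U) := fun z =>
    congrArg Subtype.val (hf z)
  have hw1' : (w1 : U) ≠ 0 := fun h0 => hw10 (Subtype.ext h0)
  let g0 : rad →* K :=
    { toFun := f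
      map_one' := by
        refine smul_left_injective K hw1' ?_
        change f 1 • (w1 : U) = (1 : K) • (w1 : U)
        rw [← hf', OneMemClass.coe_one, map_one, Module.End.one_apply, one_smul]
      map_mul' := fun a b => by
        refine smul_left_injective K hw1' ?_
        change f (a * b) • (w1 : U) = (f a * f b) • (w1 : U)
        rw [← hf', Subgroup.coe_mul, map_mul, Module.End.mul_apply, hf', map_smul, hf', smul_smul,
          mul_comm] }
  let ψ : rad →* Kˣ := g0.toHomUnits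
  have hw1 : (w1 : U) ∈ wspace ρR rad ψ := hf'
  have hψζ : ∀ z : Z, ψ ⟨⟨z, h2.le z.2⟩, hradZ _ z.2⟩ = ζ z := by
    intro z
    refine Units.ext (smul_left_injective K hw1' ?_)
    exact (hw1 ⟨⟨z, h2.le z.2⟩, hradZ _ z.2⟩).symm.trans (w1.2 z)
  have hU2U1 : ∀ w ∈ wspace ρR rad ψ, w ∈ U1 := by
    intro w hw z
    have h1 := hw ⟨⟨z, h2.le z.2⟩, hradZ _ z.2⟩
    rwa [hψζ] at h1
  have hradσ : ∀ a ∈ zpowers g, ∀ z ∈ rad, resAut φ R hRi a z ∈ rad := by
    intro a ha z hz y
    have ha' := fixed_zpowers _ hg a ha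
    have h1 := h2.pairing_act ζ φ hRi hZi ha' (resAut φ R hRi a⁻¹ y) z
    rw [aut_apply_inv] at h1
    exact h1.trans (hz _)
  let φrad : zpowers g →* MulAut rad :=
    resAut ((resAut φ R hRi).comp (zpowers g).subtype) rad fun a => hradσ a a.2
  have hψg : ∀ z : rad, ψ ⟨σ z, hradσ g (mem_zpowers g) z z.2⟩ = ψ z := by
    by_contra hne
    apply hw1'
    cases nonempty_fintype (zpowers g)
    refine eq_zero_of_orbit_sum (ρ := ρR) rad (hcardR rad) (fun L => ?_) (dual φrad)
      (S.comp (zpowers g).subtype) (w := (w1 : U)) (χ := ψ) (fun x z => ?_) ?_ fun x hx => ?_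
    · have h1 : Nat.card L ∣ n := by
        rw [hn, ← Nat.card_zpowers]; exact L.card_subgroup_dvd_card
      obtain ⟨m, hm⟩ := h1
      intro h0
      exact hnK (by rw [hm, Nat.cast_mul, h0, zero_mul])
    · rw [dual_apply, ← map_smul, ← hw1]
      change ρ ((z : R) : H) (S (x : A) w1) = S (x : A) (ρ _ w1)
      rw [h.compat]
      congr 2
      exact (aut_apply_inv φ (x : A) _).symm
    · refine hfix1 _ (Submodule.sum_mem _ fun x _ => ?_) ?_
      · have h1 := h.wspace_act Z hZi w1.2 (x : A)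
        rwa [fixed_zpowers _ hg (x : A) x.2] at h1
      · rw [map_sum]
        simp only [MonoidHom.comp_apply, Subgroup.coe_subtype, ← Module.End.mul_apply, ← map_mul]
        exact Equiv.sum_comp (Equiv.mulLeft (⟨g, mem_zpowers g⟩ : zpowers g))
          (fun x => S (x : A) (w1 : U))
    · by_cases hx1 : x = 1
      · subst hx1; simp
      · exfalso
        apply hne
        have hgen : zpowers (x : A) = zpowers g := by
          refine (h.pq.proper_eq ?_ x.2 (fun h0 => hx1 (Subtype.ext h0))).symm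
          intro htop
          have := congrArg (fun L : Subgroup A => Nat.card L) htop
          simp only [Nat.card_zpowers, card_top, h.pq.card] at this
          rcases h.pq.orderOf_cases hg1 with h1 | h1 <;> rw [h1] at this
          · exact h.pq.hq.ne_one (Nat.eq_of_mul_eq_mul_left h.pq.hp.pos ((mul_one p).trans this)).symm
          · exact h.pq.hp.ne_one (Nat.eq_of_mul_eq_mul_right h.pq.hq.pos ((one_mul q).trans this)).symm
        have hgx : (⟨g, mem_zpowers g⟩ : zpowers g) ∈ zpowers x := by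
          obtain ⟨i, hi⟩ : g ∈ zpowers (x : A) := hgen.symm ▸ mem_zpowers g
          exact ⟨i, Subtype.ext (by simpa using hi)⟩
        exact (dual_eq_iff φrad _ ψ).1 (fixed_zpowers _ hx _ hgx)
  -- the data for the counting bound
  let U2 := wspace ρR rad ψ
  have hU2 : ∀ x : R, ∀ w ∈ U2, ρR x w ∈ U2 := fun x w hw z => by
    rw [hcommop z z.2 x w (hU2U1 w hw), hw z, map_smul]
  have hS2 : ∀ w ∈ U2, S g w ∈ U2 := by
    intro w hw z
    obtain ⟨z', rfl⟩ : ∃ z' : rad, (⟨σ z', hradσ g (mem_zpowers g) z' z'.2⟩ : rad) = z := by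
      refine ⟨⟨resAut φ R hRi g⁻¹ z, hradσ g⁻¹ (inv_mem (mem_zpowers g)) z z.2⟩, Subtype.ext ?_⟩
      exact aut_apply_inv (resAut φ R hRi) g z
    rw [hψg, ← map_smul, ← hw z']
    exact (h.compat g ((z' : R) : H) w).symm
  haveI : Nontrivial U2 := ⟨⟨⟨w1, hw1⟩, 0, fun h0 => hw1' (congrArg Subtype.val h0)⟩⟩
  let ρ2 : E →* Module.End K U2 :=
    { toFun := fun x => (ρR (x : R)).restrict (hU2 x)
      map_one' := LinearMap.ext fun w => Subtype.ext (by simp)
      map_mul' := fun a b => LinearMap.ext fun w => Subtype.ext (by simp) }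
  let ψ' : E → K := fun x => if hx : (x : R) ∈ rad then (ψ ⟨x, hx⟩ : K) else 0
  have hψ' : ∀ x : E, ∀ hx : (x : R) ∈ rad, ψ' x = (ψ ⟨x, hx⟩ : K) := fun x hx => dif_pos hx
  let η : E →* E := (σ.toMonoidHom.comp E.subtype).codRestrict E fun x => hEσ x x.2
  have hη : ∀ i (x : E), (((⇑η)^[i] x : E) : R) = (⇑σ)^[i] (x : R) := by
    intro i x
    induction i with
    | zero => rfl
    | succ i ih => rw [Function.iterate_succ_apply', Function.iterate_succ_apply', ← ih]; rfl
  have hcommrad : ∀ u v : R, ⁅u, v⁆ ∈ rad := fun u v => hradZ _ (by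
    change (u : H) * v * (u : H)⁻¹ * (v : H)⁻¹ ∈ Z
    exact h2.mem u u.2 v v.2)
  have hdata : FGS73.HHData ρ2 (rad.subgroupOf E) ψ' η ((S g).restrict hS2) n :=
    { mem_center := fun z hz u => LinearMap.ext fun w => Subtype.ext (by
        change ρR ((z : R) * u) (w : U) = ρR ((u : R) * z) (w : U)
        rw [map_mul, map_mul, Module.End.mul_apply, Module.End.mul_apply]
        exact hcommop z hz u w (hU2U1 w w.2))
      commutator_mem := fun u v => by
        rw [mem_subgroupOf]
        exact hcommrad u v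
      scalar := fun z hz => LinearMap.ext fun w => Subtype.ext (by
        rw [hψ' z hz]
        exact w.2 ⟨z, hz⟩)
      nondeg := fun v hv => by
        by_contra hne
        push Not at hne
        apply hv
        rw [mem_subgroupOf]
        have hEv : ∀ u : E, β u (v : R) = 1 := by
          intro u
          have h1 := hne u
          rw [hψ' _ (hcommrad u v)] at h1
          rw [h2.pairing_apply, ← hψζ]
          refine (congrArg ψ ?_).trans (Units.ext h1)
          exact Subtype.ext (Subtype.ext (by simp [commutatorElement_def, mul_assoc]))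
        refine key v (fun y => ?_) fun y hy => v.2 y hy
        have h1 := hEv ⟨_, hEgen y⟩
        rw [map_mul, map_inv, MonoidHom.mul_apply, MonoidHom.inv_apply, mul_inv_eq_one] at h1
        exact h1
      periodic := fun e => Subtype.ext (by rw [hη, hper])
      inv := fun z hz => by
        rw [mem_subgroupOf] at hz ⊢
        exact hradσ g (mem_zpowers g) _ hz
      scalar_inv := fun z hz => by
        rw [mem_subgroupOf] at hz
        rw [hψ' z hz, hψ' (η z) (hradσ g (mem_zpowers g) _ hz)]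
        exact congrArg Units.val (hψg ⟨z, hz⟩)
      free := fun v i hi hin hv => by
        have hv' := FGS73.period_reduce (n := 0) η (rad.subgroupOf E)
          (fun z hz => by
            rw [mem_subgroupOf] at hz ⊢
            exact hradσ g (mem_zpowers g) _ hz)
          (fun e => Subtype.ext (by rw [zero_add, pow_one, hη, hper])) hnp hi
          (by rwa [zero_add, pow_one]) hv
        rw [pow_zero, Function.iterate_one, mem_subgroupOf] at hv'
        rw [mem_subgroupOf]
        refine hCE _ ?_ v.2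
        have h1 : β ((v : R)⁻¹ * σ v) = 1 := (hradker _).2 hv'
        rw [map_mul, map_inv, inv_mul_eq_one] at h1
        exact h1.symm
      pow_eq := LinearMap.ext fun w => Subtype.ext (by
        rw [Module.End.pow_restrict]
        change ((S g) ^ n) (w : U) = (w : U)
        rw [← map_pow, hn, pow_orderOf_eq_one, map_one]
        rfl)
      compat := fun e w => Subtype.ext (h.compat g ((e : R) : H) w)
      fixed := fun w hw => Subtype.ext (hfix1 w (hU2U1 w w.2) (congrArg Subtype.val hw)) }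
  obtain ⟨d, hd, hdvd, hdle⟩ := hdata.bound (hcardR E) hnK
  let δ : R →* (R →* Kˣ) := MonoidHom.mk' (fun y => β (σ y) * (β y)⁻¹) fun y y' => by
    rw [map_mul σ, map_mul β, map_mul β, mul_inv, mul_mul_mul_comm]
  have hrange : ∀ x : E, β x ∈ δ.range := by
    intro x
    have hit : ∀ i, β ((⇑σ)^[i] x) * (β x)⁻¹ ∈ δ.range := by
      intro i
      induction i with
      | zero => rw [Function.iterate_zero_apply, mul_inv_cancel]; exact one_mem _
      | succ i ih =>
        have h1 := δ.range.mul_mem ⟨(⇑σ)^[i] x, rfl⟩ ih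
        change β (σ ((⇑σ)^[i] x)) * (β ((⇑σ)^[i] x))⁻¹ * (β ((⇑σ)^[i] x) * (β x)⁻¹) ∈ δ.range at h1
        rwa [mul_assoc, inv_mul_cancel_left, ← Function.iterate_succ_apply' (⇑σ)] at h1
    have h1 : ∀ i, β (Pn x i) * ((β x) ^ i)⁻¹ ∈ δ.range := by
      intro i
      induction i with
      | zero => simp [hPn0, one_mem]
      | succ i ih =>
        have h3 := δ.range.mul_mem ih (hit i)
        have h4 : β (Pn x i) * ((β x) ^ i)⁻¹ * (β ((⇑σ)^[i] x) * (β x)⁻¹) =
            β (Pn x (i + 1)) * ((β x) ^ (i + 1))⁻¹ := by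
          refine MonoidHom.ext fun y => ?_
          simp only [hPns, pow_succ, map_mul, MonoidHom.mul_apply, MonoidHom.inv_apply, mul_inv]
          ac_rfl
        rwa [h4] at h3
    have h3 := h1 n
    rw [(hradker _).2 (hCE _ (hPC _) (hPE _ x.2)), one_mul, inv_mem_iff] at h3
    obtain ⟨j, hj⟩ := exists_pow_eq_self_of_coprime (x := β (x : R)) (n := n)
      (hnR.coprime_dvd_right (orderOf_dvd_of_pow_eq_one (by
        rw [← map_pow, pow_card_eq_one', map_one])))
    exact hj ▸ pow_mem h3 j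
  have hcard : Nat.card (Set.range fun y : R => β (σ y) * (β y)⁻¹) = (rad.subgroupOf E).index := by
    have hker : (β.comp E.subtype).ker = rad.subgroupOf E := by
      ext x
      rw [MonoidHom.mem_ker, mem_subgroupOf]
      exact hradker x
    have hr : (β.comp E.subtype).range = δ.range := by
      refine le_antisymm ?_ ?_
      · rintro _ ⟨x, rfl⟩; exact hrange x
      · rintro _ ⟨y, rfl⟩
        exact ⟨⟨_, hEgen y⟩, by
          change β (σ y * y⁻¹) = β (σ y) * (β y)⁻¹
          rw [map_mul, map_inv]⟩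
    rw [← hker, Subgroup.index_ker, hr]
    rfl
  obtain ⟨m, hm⟩ := (hR.to_subgroup E).index (rad.subgroupOf E)
  rcases Nat.eq_zero_or_pos m with rfl | hmpos
  · left
    intro y
    rw [pow_zero, Subgroup.index_eq_one] at hm
    have h1 : (⟨_, hEgen y⟩ : E) ∈ rad.subgroupOf E := hm ▸ mem_top _
    have h3 := (hradker _).2 (mem_subgroupOf.1 h1)
    rw [map_mul, map_inv, mul_inv_eq_one] at h3
    exact h3
  · right
    rw [hm] at hd hdvd
    obtain ⟨hr2, k, hk, hnk, hrm⟩ := hh_arith (Fact.out : r.Prime) hnp hd hmpos.ne' hdvd hdle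
    exact ⟨hr2, k, hk, hnk, by rw [hcard, hm, hrm]⟩

end Setup

end Cfsg.Agent.PQAct
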