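import Cfsg.Agent.PQAct.Crit
import Cfsg.Agent.PQAct.Exception
import Cfsg.Agent.PQAct.Pairing

/-!
Invariant subgroups of coprime orders normalising each other centralise each other.
-/

set_option autoImplicit false
set_option linter.style.haveILetI false
set_option linter.unusedSectionVars false

namespace Cfsg.Agent.PQAct

open Subgroup

/-- automorphisms as endomorphisms of the additive group -/
def autEnd (N : Type*) [CommGroup N] : MulAut N →* AddMonoid.End (Additive N) where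
  toFun e := MonoidHom.toAdditive e.toMonoidHom
  map_one' := rfl
  map_mul' _ _ := rfl

variable {A : Type*} [Group A] {H : Type*} [Group H] {K : Type*} [Field K] {U : Type*}
  [AddCommGroup U] [Module K U]

namespace Setup

variable {b c : A} {p q : ℕ} {φ : A →* MulAut H} {ρ : H →* Module.End K U}
  {S : A →* Module.End K U} {r t : ℕ} {R T : Subgroup H}

theorem crit_false [Finite A] [Finite H] [IsAlgClosed K] [FiniteDimensional K U]
    (h : Setup b c p q φ ρ S) (C : Crit φ r t R T) (hrK : (r : K) ≠ 0) : False := by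
  classical
  haveI := Fact.mk C.hr
  have hna := h.not_comm C hrK
  push Not at hna
  obtain ⟨x₀, hx₀, y₀, hy₀, hxy⟩ := hna
  haveI : Nontrivial R := ⟨⟨⟨x₀, hx₀⟩, 1, fun h1 => hxy (by
    rw [show x₀ = 1 from congrArg Subtype.val h1, one_mul, mul_one])⟩⟩
  -- the centre
  set Z : Subgroup H := (center R).map R.subtype with hZ
  have hZle : Z ≤ R := map_subtype_le _
  have hfrne : frattini R ≠ ⊤ := by
    obtain h | ⟨M', hM', -⟩ := eq_top_or_exists_le_coatom (⊥ : Subgroup R)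
    · exact absurd h bot_ne_top
    · exact fun hfr => hM'.1 (top_le_iff.1 (hfr ▸ frattini_le_coatom hM'))
  have hfrZ : frattini R ≤ center R := C.char_le_center (frattini R) hfrne
  have h2 : Class2 R Z :=
    { le := hZle
      mem := fun y hy x hx => ⟨_, hfrZ (Cfsg.Agent.PGroup.comm_mem_frattini C.Rp ⟨y, hy⟩ ⟨x, hx⟩), rfl⟩
      cen := by
        rintro _ ⟨z, hz, rfl⟩ x hx
        exact (congrArg Subtype.val (mem_center_iff.1 hz ⟨x, hx⟩)).symm }
  have hZi : ∀ a, ∀ x ∈ Z, φ a x ∈ Z :=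
    map_subtype_invariant φ C.Ri fun a x hx =>
      Subgroup.characteristic_iff_map_eq.1 (inferInstance : (center R).Characteristic)
        (resAut φ R C.Ri a) ▸ ⟨x, hx, rfl⟩
  have hZne : center R ≠ ⊤ := fun h1 => hxy (congrArg Subtype.val
    (mem_center_iff.1 (h1.symm ▸ mem_top (⟨y₀, hy₀⟩ : R)) ⟨x₀, hx₀⟩))
  have hTZ : ∀ s : T, ∀ z ∈ Z, (s : H) * z * (s : H)⁻¹ = z := fun s z hz => by
    rw [C.minR Z (map_subtype_lt hZne) hZi (by
      rintro u hu _ ⟨y, hy, rfl⟩
      refine ⟨conjRes T R C.norm ⟨u, hu⟩ y, ?_, rfl⟩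
      exact Subgroup.characteristic_iff_map_eq.1 (inferInstance : (center R).Characteristic)
        (conjRes T R C.norm ⟨u, hu⟩) ▸ ⟨y, hy, rfl⟩) s s.2 z hz, mul_inv_cancel_right]
  have hTZ' : ∀ u ∈ T, ∀ z ∈ Z, u * z * u⁻¹ ∈ Z := fun u hu z hz => by
    rw [hTZ ⟨u, hu⟩ z hz]; exact hz
  have hcardZ : (Nat.card Z : K) ≠ 0 := by
    obtain ⟨i, hi⟩ := IsPGroup.iff_card.1 (C.Rp.to_le hZle)
    rw [hi, Nat.cast_pow]
    exact pow_ne_zero _ hrK
  set z₀ : Z := ⟨x₀ * y₀ * x₀⁻¹ * y₀⁻¹, h2.mem x₀ hx₀ y₀ hy₀⟩ with hz₀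
  have hρz : ρ (z₀ : H) ≠ 1 := by
    intro h1
    apply hxy
    have h3 : x₀ * y₀ * x₀⁻¹ * y₀⁻¹ = 1 := h.inj (h1.trans (map_one ρ).symm)
    calc x₀ * y₀ = x₀ * y₀ * x₀⁻¹ * y₀⁻¹ * (y₀ * x₀) := by group
      _ = y₀ * x₀ := by rw [h3, one_mul]
  obtain ⟨ζ, w, hw, hw0, hζ⟩ := exists_weight ρ Z (fun x hx y hy => h2.cen x hx y (hZle hy))
    hcardZ hρz
  obtain ⟨g, hg1, hg⟩ := h.exists_stab Z hZi hcardZ hw hw0
  have hstab : ∀ a, dual (resAut φ Z hZi) a ζ = ζ → a ∈ zpowers g := by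
    intro a ha
    let L : Subgroup A :=
      { carrier := {x | dual (resAut φ Z hZi) x ζ = ζ}
        one_mem' := aut_one _ ζ
        mul_mem' := fun {s u} hs hu => by
          change dual (resAut φ Z hZi) (s * u) ζ = ζ
          rw [aut_mul, hu, hs]
        inv_mem' := fun {s} hs => by
          change dual (resAut φ Z hZi) s⁻¹ ζ = ζ
          conv_lhs => rw [← (hs : dual (resAut φ Z hZi) s ζ = ζ)]
          rw [aut_inv_apply] }
    have hL : L ≠ ⊤ := fun h1 => hζ (by
      rw [h.char_fixed_trivial Z hZi ζ (fun x => (h1.symm ▸ mem_top x : x ∈ L))]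
      rfl)
    exact h.pq.proper_eq hL (show g ∈ L from hg) hg1 ▸ (show a ∈ L from ha)
  set β := h2.pairing ζ with hβ
  set σ := resAut φ R C.Ri g with hσ
  set DA : A →* MulAut (R →* Kˣ) := dual (resAut φ R C.Ri)
  set DT : T →* MulAut (R →* Kˣ) := dual (conjRes T R C.norm)
  have hDA : ∀ y, DA g (β y) = β (σ y) := by
    intro y
    refine MonoidHom.ext fun x => ?_
    rw [dual_apply]
    conv_rhs => rw [← aut_apply_inv (resAut φ R C.Ri) g x]
    exact (h2.pairing_act ζ φ C.Ri hZi hg y _).symm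
  have hDT : ∀ s y, DT s (β y) = β (conjRes T R C.norm s y) := by
    intro s y
    refine MonoidHom.ext fun x => ?_
    rw [dual_apply]
    conv_rhs => rw [← aut_apply_inv (conjRes T R C.norm) s x]
    refine (h2.pairing_act ζ (MulAut.conj.comp T.subtype) (fun u => C.norm u u.2)
      (fun u => hTZ' u u.2) (a := s) ?_ y _).symm
    rw [dual_eq_iff]
    exact fun z => congrArg ζ (Subtype.ext (hTZ s z z.2))
  have hβne : β ≠ 1 := by
    intro h1
    apply hζ
    have h3 := DFunLike.congr_fun (DFunLike.congr_fun h1 (⟨x₀, hx₀⟩ : R)) (⟨y₀, hy₀⟩ : R)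
    rw [h2.pairing_apply] at h3
    exact h3
  apply hβne
  rcases h.hh h2 C.Rp hrK C.Ri hZi hw hw0 hg1 hg hstab with htriv | ⟨hr2, k, hk, hgk, hcard⟩
  · refine MonoidHom.ext fun y => h.char_trivial C hg1 (β y) fun s => ?_
    rw [hDT, hDA]
    exact htriv _
  -- the exceptional case
  subst hr2
  have hRnt : 2 ∣ Nat.card H := by
    obtain ⟨i, hi⟩ := IsPGroup.iff_card.1 C.Rp
    have h1 : 1 < Nat.card R := Finite.one_lt_card_iff_nontrivial.2 inferInstance
    rw [hi] at h1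
    refine dvd_trans ?_ R.card_subgroup_dvd_card
    rw [hi]
    exact dvd_pow_self 2 (fun h0 => by simp [h0] at h1)
  have hq2 : q ≠ 2 := by
    intro hq
    exact Nat.prime_two.not_dvd_one (h.cop ▸ Nat.dvd_gcd hRnt (hq ▸ dvd_mul_left q p))
  have hgb : g ∉ zpowers b := by
    intro hgb
    apply hq2
    have h1 : orderOf g = p := by rw [← Nat.card_zpowers, h.pq.gen_of_mem hgb hg1, h.pq.card_B]
    have h3 : q ∣ 2 ^ k := by
      have h4 := h.pq.dvd
      rwa [h1.symm.trans hgk, Nat.add_sub_cancel] at h4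
    exact (Nat.prime_dvd_prime_iff_eq h.pq.hq Nat.prime_two).1 (h.pq.hq.dvd_of_dvd_pow h3)
  have h' : Setup b g p q φ ρ S := h.change hgb
  have hgq : orderOf g = q := h'.pq.oc
  have hinvA : ∀ x ∈ β.range, DA g x ∈ β.range := by
    rintro _ ⟨y, rfl⟩; exact ⟨σ y, (hDA y).symm⟩
  have hinvT : ∀ s, ∀ x ∈ β.range, DT s x ∈ β.range := by
    rintro s _ ⟨y, rfl⟩; exact ⟨_, (hDT s y).symm⟩
  haveI : Finite β.range := Finite.of_surjective _ β.rangeRestrict_surjective
  let P : T →* AddMonoid.End (Additive β.range) := (autEnd _).comp (resAut DT β.range hinvT)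
  let cM : AddMonoid.End (Additive β.range) :=
    MonoidHom.toAdditive (MonoidHom.mk' (fun x : β.range => (⟨DA g x, hinvA x x.2⟩ : β.range))
      fun x y => Subtype.ext (map_mul (DA g) _ _))
  have hcval : ∀ m, (((cM m).toMul : β.range) : R →* Kˣ) = DA g (m.toMul : R →* Kˣ) := fun m => rfl
  have hPval : ∀ s m, (((P s m).toMul : β.range) : R →* Kˣ) = DT s (m.toMul : R →* Kˣ) :=
    fun s m => rfl
  have hcpow : ∀ i m, (((cM ^ i) m).toMul : R →* Kˣ) = DA (g ^ i) (m.toMul : R →* Kˣ) := by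
    intro i m
    induction i with
    | zero => rw [pow_zero, pow_zero, aut_one]; rfl
    | succ i ih =>
      rw [pow_succ' g, aut_mul, ← ih, ← hcval]
      rw [pow_succ' cM]
      rfl
  have hext : ∀ {m m' : Additive β.range}, ((m.toMul : β.range) : R →* Kˣ) = m'.toMul → m = m' :=
    fun h1 => Additive.toMul.injective (Subtype.ext h1)
  let pre : Additive β.range → R := fun m => Classical.choose m.toMul.2
  have hpre : ∀ m, β (pre m) = (m.toMul : R →* Kˣ) := fun m => Classical.choose_spec m.toMul.2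
  let B : Additive β.range → Additive β.range → Kˣ := fun m m' => (m.toMul : R →* Kˣ) (pre m')
  have hB : ∀ m m' y y', β y = (m.toMul : R →* Kˣ) → β y' = (m'.toMul : R →* Kˣ) →
      B m m' = β y y' := by
    intro m m' y y' hy hy'
    change (m.toMul : R →* Kˣ) (pre m') = _
    rw [← hy, h2.pairing_swap ζ (pre m') y, ← hβ, hpre, ← hy', ← h2.pairing_swap ζ y' y]
  have h2' : ∀ m : Additive β.range, m + m = 0 := by
    intro m
    apply hext
    obtain ⟨y, hy⟩ := m.toMul.2
    change (m.toMul : R →* Kˣ) * (m.toMul : R →* Kˣ) = 1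
    rw [← hy, ← map_mul]
    refine MonoidHom.ext fun x => ?_
    rw [h2.pairing_swap ζ x (y * y), ← hβ, h2.pairing_Z, inv_one, MonoidHom.one_apply]
    refine ⟨y * y, hfrZ ?_, rfl⟩
    have h3 := Cfsg.Agent.PGroup.pow_mem_frattini C.Rp y
    rwa [sq] at h3
  have hit : ∀ i (s : T), (⇑(resAut φ T C.Ti g).toMonoidHom)^[i] s = resAut φ T C.Ti (g ^ i) s := by
    intro i s
    induction i with
    | zero => rw [pow_zero, aut_one]; rfl
    | succ i ih => rw [Function.iterate_succ_apply', ih, pow_succ', aut_mul]; rfl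
  have D : ExcData P (resAut φ T C.Ti g).toMonoidHom cM q k B :=
    { two := h2'
      hq := h.pq.hq
      hqk := hgq ▸ hgk
      hk := hk
      comm := fun s u => AddMonoidHom.ext fun m => hext (by
        change DT s (DT u _) = DT u (DT s _)
        exact MonoidHom.ext fun x => congrArg _ (C.comm_act u⁻¹ s⁻¹ x))
      per := fun s => by rw [hit, ← hgq, pow_orderOf_eq_one, aut_one]
      cq := AddMonoidHom.ext fun m => hext ((hcpow q m).trans (by
        rw [← hgq, pow_orderOf_eq_one, aut_one]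
        rfl))
      compat := fun s => AddMonoidHom.ext fun m => hext (by
        change DA g (DT s _) = DT _ (DA g _)
        exact dual_compat R T C.Ri C.Ti C.norm g s _)
      odd := fun hd => by
        haveI := Fact.mk C.ht
        obtain ⟨i, hi⟩ := IsPGroup.iff_card.1 C.Tp
        rw [hi] at hd
        exact C.hne ((Nat.prime_dvd_prime_iff_eq Nat.prime_two C.ht).1
          (Nat.prime_two.dvd_of_dvd_pow hd))
      cop := ((h.cop_sub T).coprime_dvd_right (dvd_mul_left q p))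
      card_range := by
        rw [← hcard]
        have hinj : Function.Injective fun m : Additive β.range => (m.toMul : R →* Kˣ) :=
          fun a b h1 => hext h1
        rw [← Nat.card_image_of_injective hinj]
        congr 1
        apply congrArg Set.Elem
        ext χ
        simp only [Set.mem_image, Set.mem_range]
        constructor
        · rintro ⟨_, ⟨m, rfl⟩, rfl⟩
          refine ⟨pre m, ?_⟩
          change β (σ (pre m)) * (β (pre m))⁻¹ = ((cM m - m).toMul : R →* Kˣ)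
          rw [← hDA, hpre, ← hcval, sub_eq_add_neg]
          rfl
        · rintro ⟨y, rfl⟩
          refine ⟨_, ⟨Additive.ofMul ⟨β y, y, rfl⟩, rfl⟩, ?_⟩
          rw [sub_eq_add_neg]
          change DA g (β y) * (β y)⁻¹ = _
          rw [hDA]
      add_left := fun x y z => rfl
      add_right := fun x y z => by
        rw [hB x (y + z) (pre x) (pre y * pre z) (hpre x) (by rw [map_mul, hpre, hpre]; rfl),
          hB x y _ _ (hpre x) (hpre y), hB x z _ _ (hpre x) (hpre z), map_mul]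
      alt := fun x => by rw [hB x x _ _ (hpre x) (hpre x)]; exact h2.pairing_self ζ _
      nondeg := fun x hx => by
        apply hext
        refine MonoidHom.ext fun z => ?_
        have h3 := hx (Additive.ofMul ⟨β z, z, rfl⟩)
        rw [hB x (Additive.ofMul ⟨β z, z, rfl⟩) (pre x) z (hpre x) rfl, hpre] at h3
        exact h3
      inv_c := fun x y => by
        rw [hB x y _ _ (hpre x) (hpre y), hB (cM x) (cM y) (σ (pre x)) (σ (pre y))
          (by rw [hcval, ← hpre x, hDA]) (by rw [hcval, ← hpre y, hDA])]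
        exact h2.pairing_act ζ φ C.Ri hZi hg _ _
      inv_P := fun s x y => by
        rw [hB x y _ _ (hpre x) (hpre y), hB (P s x) (P s y) (conjRes T R C.norm s (pre x))
          (conjRes T R C.norm s (pre y))
          (by rw [hPval, ← hpre x, hDT]) (by rw [hPval, ← hpre y, hDT])]
        conv_lhs => rw [← hDT, dual_apply, aut_inv_apply]
      fixU := fun m hm hU => by
        apply hext
        refine h.char_trivial C hg1 _ fun s => ?_
        have hgm : DA g (m.toMul : R →* Kˣ) = m.toMul := by rw [← hcval, hm]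
        have h3 : DT (s⁻¹ * resAut φ T C.Ti g s) (m.toMul : R →* Kˣ) = m.toMul := by
          have h4 := congrArg (fun z : Additive β.range => (z.toMul : R →* Kˣ)) (hU s)
          exact h4
        rw [dual_compat R T C.Ri C.Ti C.norm, hgm]
        conv_rhs => rw [← h3]
        rw [← aut_mul, mul_inv_cancel_left]
      fixT := fun m hm => by
        apply hext
        refine C.char_T_trivial _ fun s => ?_
        rw [← hPval, hm] }
  refine MonoidHom.ext fun y => ?_
  exact congrArg (fun z : Additive β.range => (z.toMul : R →* Kˣ))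
    (D.eq_zero (Additive.ofMul ⟨β y, y, rfl⟩))

/-- Invariant subgroups of coprime prime power orders normalising each other centralise each
other. -/
theorem centralize [Finite A] [Finite H] [IsAlgClosed K] [FiniteDimensional K U]
    (h : Setup b c p q φ ρ S) {r t : ℕ} (hr : r.Prime) (ht : t.Prime) (hrt : r ≠ t)
    (hrK : (r : K) ≠ 0) (R T : Subgroup H) (hR : IsPGroup r R) (hT : IsPGroup t T)
    (hRi : ∀ a, ∀ x ∈ R, φ a x ∈ R) (hTi : ∀ a, ∀ x ∈ T, φ a x ∈ T)
    (hN : ∀ s ∈ T, ∀ x ∈ R, s * x * s⁻¹ ∈ R) : ∀ s ∈ T, ∀ x ∈ R, s * x = x * s := by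
  classical
  by_contra hne
  obtain ⟨R₀, hR₀R, hR₀⟩ := Finite.exists_le_minimal (p := fun R' : Subgroup H =>
    R' ≤ R ∧ (∀ a, ∀ x ∈ R', φ a x ∈ R') ∧ (∀ s ∈ T, ∀ x ∈ R', s * x * s⁻¹ ∈ R') ∧
      ¬ ∀ s ∈ T, ∀ x ∈ R', s * x = x * s) (a := R) ⟨le_rfl, hRi, hN, hne⟩
  obtain ⟨-, hR₀i, hR₀N, hR₀ne⟩ := hR₀.prop
  obtain ⟨T₀, hT₀T, hT₀⟩ := Finite.exists_le_minimal (p := fun T' : Subgroup H =>
    T' ≤ T ∧ (∀ a, ∀ x ∈ T', φ a x ∈ T') ∧ ¬ ∀ s ∈ T', ∀ x ∈ R₀, s * x = x * s) (a := T)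
    ⟨le_rfl, hTi, hR₀ne⟩
  obtain ⟨-, hT₀i, hT₀ne⟩ := hT₀.prop
  obtain ⟨R₁, hR₁R, hR₁⟩ := Finite.exists_le_minimal (p := fun R' : Subgroup H =>
    R' ≤ R₀ ∧ (∀ a, ∀ x ∈ R', φ a x ∈ R') ∧ (∀ s ∈ T₀, ∀ x ∈ R', s * x * s⁻¹ ∈ R') ∧
      ¬ ∀ s ∈ T₀, ∀ x ∈ R', s * x = x * s) (a := R₀)
    ⟨le_rfl, hR₀i, fun s hs => hR₀N s (hT₀T hs), hT₀ne⟩
  obtain ⟨-, hR₁i, hR₁N, hR₁ne⟩ := hR₁.prop
  obtain ⟨T₁, hT₁T, hT₁⟩ := Finite.exists_le_minimal (p := fun T' : Subgroup H =>
    T' ≤ T₀ ∧ (∀ a, ∀ x ∈ T', φ a x ∈ T') ∧ ¬ ∀ s ∈ T', ∀ x ∈ R₁, s * x = x * s) (a := T₀)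
    ⟨le_rfl, hT₀i, hR₁ne⟩
  obtain ⟨-, hT₁i, hT₁ne⟩ := hT₁.prop
  -- `T₁ = T₀`
  have hTT : T₁ = T₀ := by
    refine le_antisymm hT₁T (hT₀.2 ⟨hT₁T.trans hT₀T, hT₁i, fun hall => hT₁ne ?_⟩ hT₁T)
    exact fun s hs x hx => hall s hs x (hR₁R hx)
  subst hTT
  refine crit_false (r := r) (t := t) (R := R₁) (T := T₁) h
    { hr := hr, ht := ht, hne := hrt, Rp := hR.to_le (hR₁R.trans hR₀R), Tp := hT.to_le hT₀T
      Ri := hR₁i, Ti := hT₁i, norm := hR₁N, ne := hR₁ne
      minR := fun R' hlt hi hn => by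
        by_contra hc
        exact hlt.not_ge (hR₁.2 ⟨hlt.le.trans hR₁R, hi, hn, hc⟩ hlt.le)
      minT := fun T' hlt hi => by
        by_contra hc
        exact hlt.not_ge (hT₁.2 ⟨hlt.le, hi, hc⟩ hlt.le) } hrK

end Setup

end Cfsg.Agent.PQAct
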