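import Cfsg.Agent.PQAct.Nilpotent

/-!
`Sym 3` acting without fixed points: invariant subgroups of prime power order are abelian.
-/

set_option autoImplicit false
set_option linter.style.haveILetI false
set_option linter.unusedSectionVars false

namespace Cfsg.Agent.PQAct

open Subgroup
open scoped IsMulCommutative

/-! ### central pairings -/

section Pairing

variable {G : Type*} [Group G] {N : Type*} [CommGroup N] {P : Subgroup G}

/-- the commutator of an element of `P` with an element of `G`, in the centre -/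
def cval (hP : ∀ m ∈ P, ∀ x : G, m * x * m⁻¹ * x⁻¹ ∈ center G) (m : P) (x : G) : center G :=
  ⟨(m : G) * x * (m : G)⁻¹ * x⁻¹, hP m m.2 x⟩

theorem cval_mul_right (hP : ∀ m ∈ P, ∀ x : G, m * x * m⁻¹ * x⁻¹ ∈ center G) (m : P) (x y : G) :
    cval hP m (x * y) = cval hP m x * cval hP m y := by
  apply Subtype.ext
  change (m : G) * (x * y) * (m : G)⁻¹ * (x * y)⁻¹ =
    (m : G) * x * (m : G)⁻¹ * x⁻¹ * ((m : G) * y * (m : G)⁻¹ * y⁻¹)
  have hc := mem_center_iff.1 (hP m m.2 y) x
  calc (m : G) * (x * y) * (m : G)⁻¹ * (x * y)⁻¹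
      = (m : G) * x * (m : G)⁻¹ * (((m : G) * y * (m : G)⁻¹ * y⁻¹) * x⁻¹) := by group
    _ = (m : G) * x * (m : G)⁻¹ * x⁻¹ *
          ((x * ((m : G) * y * (m : G)⁻¹ * y⁻¹)) * x⁻¹) := by group
    _ = _ := by rw [hc]; group

theorem cval_mul_left (hP : ∀ m ∈ P, ∀ x : G, m * x * m⁻¹ * x⁻¹ ∈ center G) (m n : P) (x : G) :
    cval hP (m * n) x = cval hP m x * cval hP n x := by
  apply Subtype.ext
  change ((m : G) * n) * x * ((m : G) * n)⁻¹ * x⁻¹ =
    (m : G) * x * (m : G)⁻¹ * x⁻¹ * ((n : G) * x * (n : G)⁻¹ * x⁻¹)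
  have hc := mem_center_iff.1 (hP n n.2 x) (m : G)
  have hc' := mem_center_iff.1 (hP n n.2 x) ((m : G) * x * (m : G)⁻¹ * x⁻¹)
  rw [hc']
  calc ((m : G) * n) * x * ((m : G) * n)⁻¹ * x⁻¹
      = ((m : G) * ((n : G) * x * (n : G)⁻¹ * x⁻¹)) * (x * (m : G)⁻¹ * x⁻¹) := by group
    _ = _ := by rw [hc]; group

/-- the pairing `(m, x) ↦ ν [m, x]` -/
def cpair (hP : ∀ m ∈ P, ∀ x : G, m * x * m⁻¹ * x⁻¹ ∈ center G) (ν : center G →* N) :
    P →* (G →* N) :=
  MonoidHom.mk' (fun m => MonoidHom.mk' (fun x => ν (cval hP m x))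
      fun x y => by rw [cval_mul_right, map_mul])
    fun m n => MonoidHom.ext fun x => (congrArg ν (cval_mul_left hP m n x)).trans (map_mul ν _ _)

theorem cpair_apply (hP : ∀ m ∈ P, ∀ x : G, m * x * m⁻¹ * x⁻¹ ∈ center G) (ν : center G →* N)
    (m : P) (x : G) : cpair hP ν m x = ν (cval hP m x) := rfl

end Pairing

variable {A : Type*} [Group A]

theorem PQ.conj_b {b c : A} [Finite A] (h : PQ b c 3 2) : c * b * c⁻¹ = b ^ 2 ∧ c * c = 1 ∧
    b ^ 3 = 1 := by
  have hb3 : b ^ 3 = 1 := by have := pow_orderOf_eq_one b; rwa [h.ob] at this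
  have hc2 : c * c = 1 := by
    have := pow_orderOf_eq_one c; rwa [h.oc, sq] at this
  refine ⟨?_, hc2, hb3⟩
  have hmem := h.normal.conj_mem b (mem_zpowers b) c
  rw [← mem_powers_iff_mem_zpowers, Submonoid.mem_powers_iff] at hmem
  obtain ⟨i, hi⟩ := hmem
  rw [pow_eq_pow_mod i hb3] at hi
  have hlt : i % 3 < 3 := Nat.mod_lt _ (by omega)
  rcases (by omega : i % 3 = 0 ∨ i % 3 = 1 ∨ i % 3 = 2) with h0 | h0 | h0 <;> rw [h0] at hi
  · exfalso
    rw [pow_zero, eq_comm, mul_inv_eq_one, mul_eq_left] at hi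
    rw [← orderOf_eq_one_iff, h.ob] at hi
    omega
  · exfalso
    rw [pow_one, eq_comm, mul_inv_eq_iff_eq_mul] at hi
    exact h.noncomm hi
  · exact hi.symm

/-- bilinear maps on which a nontrivial element is trivial on both sides -/
theorem pairing_eq_one [Finite A] {b c : A} (h : PQ b c 3 2) {P Q N : Type*} [Group P] [Finite P]
    [Group Q] [Finite Q] [CommGroup N] (φP : A →* MulAut P) (φQ : A →* MulAut Q)
    (hPcop : (Nat.card P).Coprime (3 * 2)) (hQcop : (Nat.card Q).Coprime (3 * 2))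
    (hPfix : ∀ χ : P →* N, (∀ a, dual φP a χ = χ) → χ = 1)
    (hQfix : ∀ χ : Q →* N, (∀ a, dual φQ a χ = χ) → χ = 1)
    (B : P →* (Q →* N))
    (hall : ∀ m x, (∀ a, B (φP a m) (φQ a x) = B m x) → B m x = 1)
    (hthree : ∀ (c' : A), PQ b c' 3 2 → ∀ m x, φP c' m = m → φQ c' x = x →
      B m x * B (φP b m) (φQ b x) * B (φP (b ^ 2) m) (φQ (b ^ 2) x) = 1)
    {g : A} (hg : g ≠ 1) (hgP : ∀ m x, B (φP g m) x = B m x)
    (hgQ : ∀ m x, B m (φQ g x) = B m x) : B = 1 := by
  classical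
  refine MonoidHom.ext fun m₀ => MonoidHom.ext fun x₀ => ?_
  let KP : Subgroup A :=
    { carrier := {a | ∀ m x, B (φP a m) x = B m x}
      one_mem' := fun m x => by rw [aut_one]
      mul_mem' := fun {s t} hs ht m x => by rw [aut_mul, hs, ht]
      inv_mem' := fun {s} hs m x => by
        conv_rhs => rw [← aut_apply_inv φP s m, hs] }
  let KQ : Subgroup A :=
    { carrier := {a | ∀ m x, B m (φQ a x) = B m x}
      one_mem' := fun m x => by rw [aut_one]
      mul_mem' := fun {s t} hs ht m x => by rw [aut_mul, hs, ht]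
      inv_mem' := fun {s} hs m x => by
        conv_rhs => rw [← aut_apply_inv φQ s x, hs] }
  by_cases hgb : g ∈ zpowers b
  · have hbg : b ∈ zpowers g := (h.gen_of_mem hgb hg).symm ▸ mem_zpowers b
    have hbP : ∀ m x, B (φP b m) x = B m x := zpowers_le.2 (show g ∈ KP from hgP) hbg
    have hbQ : ∀ m x, B m (φQ b x) = B m x := zpowers_le.2 (show g ∈ KQ from hgQ) hbg
    obtain ⟨hcb, hc2, -⟩ := h.conj_b
    have hinvQ : ∀ χ : Q →* N, (∀ x, χ (φQ b x) = χ x) → ∀ x, χ (φQ c x) = (χ x)⁻¹ := by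
      intro χ hχ x
      have hχ2 : ∀ x, χ (φQ (b ^ 2) x) = χ x := fun x => by rw [sq, aut_mul, hχ, hχ]
      have h1 := hQfix (χ * χ.comp (φQ c).toMonoidHom) (h.fixed_of_gen (dual φQ) ?_ ?_)
      · have h2 := DFunLike.congr_fun h1 x
        exact eq_inv_of_mul_eq_one_right h2
      · rw [dual_eq_iff]
        intro y
        change χ (φQ b y) * χ (φQ c (φQ b y)) = χ y * χ (φQ c y)
        rw [hχ, ← aut_mul, show c * b = b ^ 2 * c by rw [← hcb, inv_mul_cancel_right], aut_mul, hχ2]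
      · rw [dual_eq_iff]
        intro y
        change χ (φQ c y) * χ (φQ c (φQ c y)) = χ y * χ (φQ c y)
        rw [← aut_mul, hc2, aut_one, mul_comm]
    have hinvP : ∀ χ : P →* N, (∀ x, χ (φP b x) = χ x) → ∀ x, χ (φP c x) = (χ x)⁻¹ := by
      intro χ hχ x
      have hχ2 : ∀ x, χ (φP (b ^ 2) x) = χ x := fun x => by rw [sq, aut_mul, hχ, hχ]
      have h1 := hPfix (χ * χ.comp (φP c).toMonoidHom) (h.fixed_of_gen (dual φP) ?_ ?_)
      · have h2 := DFunLike.congr_fun h1 x
        exact eq_inv_of_mul_eq_one_right h2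
      · rw [dual_eq_iff]
        intro y
        change χ (φP b y) * χ (φP c (φP b y)) = χ y * χ (φP c y)
        rw [hχ, ← aut_mul, show c * b = b ^ 2 * c by rw [← hcb, inv_mul_cancel_right], aut_mul, hχ2]
      · rw [dual_eq_iff]
        intro y
        change χ (φP c y) * χ (φP c (φP c y)) = χ y * χ (φP c y)
        rw [← aut_mul, hc2, aut_one, mul_comm]
    refine hall m₀ x₀ fun a => ?_
    let KK : Subgroup A :=
      { carrier := {a | ∀ m x, B (φP a m) (φQ a x) = B m x}
        one_mem' := fun m x => by rw [aut_one, aut_one]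
        mul_mem' := fun {s t} hs ht m x => by rw [aut_mul, aut_mul, hs, ht]
        inv_mem' := fun {s} hs m x => by
          conv_rhs => rw [← aut_apply_inv φP s m, ← aut_apply_inv φQ s x, hs] }
    refine h.forall_of_gen (K := KK) (fun m x => by rw [hbP, hbQ]) (fun m x => ?_) a m₀ x₀
    rw [hinvQ (B (φP c m)) (hbQ _)]
    have h3 := hinvP ((MonoidHom.eval x).comp B) (fun y => hbP y x) m
    change B (φP c m) x = (B m x)⁻¹ at h3
    rw [h3, inv_inv]
  · have h' : PQ b g 3 2 := h.change hgb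
    obtain ⟨hcb, hg2, hb3⟩ := h'.conj_b
    have hcb2 : g * b = b ^ 2 * g := by rw [← hcb, inv_mul_cancel_right]
    have hgg : g⁻¹ = g := inv_eq_of_mul_eq_one_right hg2
    -- representatives fixed by `g`
    have hrepP : ∀ m, ∃ m', φP g m' = m' ∧ B m' = B m := by
      intro m
      have hker : ∀ a ∈ zpowers g, ∀ y, B (φP a y) = B y := fun a ha y =>
        MonoidHom.ext fun x => (zpowers_le.2 (show g ∈ KP from hgP) ha) y x
      obtain ⟨n, hn, hfix⟩ := exists_fixed_coset φP (zpowers g) B.ker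
        (fun a ha y hy => by rw [MonoidHom.mem_ker] at hy ⊢; rw [hker a ha, hy])
        (h.coprime_subgroup (hPcop.coprime_dvd_left (Subgroup.card_subgroup_dvd_card _)) _)
        (Or.inl inferInstance) m
        (fun a ha => by rw [MonoidHom.mem_ker, map_mul, map_inv, hker a ha, inv_mul_cancel])
      exact ⟨m * n, hfix g (mem_zpowers g), by rw [map_mul, MonoidHom.mem_ker.1 hn, mul_one]⟩
    have hrepQ : ∀ x, ∃ x', φQ g x' = x' ∧ ∀ m, B m x' = B m x := by
      intro x
      let N' : Subgroup Q :=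
        { carrier := {y | ∀ m, B m y = 1}
          one_mem' := fun m => map_one _
          mul_mem' := fun {u v} hu hv m => by rw [map_mul, hu, hv, one_mul]
          inv_mem' := fun {u} hu m => by rw [map_inv, hu, inv_one] }
      have hker : ∀ a ∈ zpowers g, ∀ y m, B m (φQ a y) = B m y := fun a ha y m =>
        (zpowers_le.2 (show g ∈ KQ from hgQ) ha) m y
      obtain ⟨n, hn, hfix⟩ := exists_fixed_coset φQ (zpowers g) N'
        (fun a ha y hy m => by rw [hker a ha, hy])
        (h.coprime_subgroup (hQcop.coprime_dvd_left (Subgroup.card_subgroup_dvd_card _)) _)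
        (Or.inl inferInstance) x
        (fun a ha m => by rw [map_mul, map_inv, hker a ha, inv_mul_cancel])
      exact ⟨x * n, hfix g (mem_zpowers g), fun m => by rw [map_mul, hn m, mul_one]⟩
    have htQ : ∀ m x, φQ g x = x → (B m (φQ b x)) ^ 2 = (B m x)⁻¹ := by
      intro m x hx
      have h1 := hQfix (B m * (B m).comp (φQ b).toMonoidHom * (B m).comp (φQ (b ^ 2)).toMonoidHom)
        (h'.fixed_of_gen (dual φQ) ?_ ?_)
      · have h2 := DFunLike.congr_fun h1 x
        change B m x * B m (φQ b x) * B m (φQ (b ^ 2) x) = 1 at h2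
        have h3 : φQ (b ^ 2) x = φQ g (φQ b x) := by rw [← aut_mul, hcb2, aut_mul, hx]
        rw [h3, hgQ, mul_assoc, ← sq] at h2
        exact eq_inv_of_mul_eq_one_right h2
      · rw [dual_eq_iff]
        intro y
        change B m (φQ b y) * B m (φQ b (φQ b y)) * B m (φQ (b ^ 2) (φQ b y)) =
          B m y * B m (φQ b y) * B m (φQ (b ^ 2) y)
        rw [← aut_mul, ← aut_mul, ← sq, ← pow_succ, hb3, aut_one]
        ac_rfl
      · rw [dual_eq_iff]
        intro y
        change B m (φQ g y) * B m (φQ b (φQ g y)) * B m (φQ (b ^ 2) (φQ g y)) =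
          B m y * B m (φQ b y) * B m (φQ (b ^ 2) y)
        have e1 : b * g = g * b ^ 2 := by
          rw [sq, ← mul_assoc, hcb2, mul_assoc, hcb2, ← mul_assoc, ← pow_add, pow_succ b 3,
            hb3, one_mul]
        rw [← aut_mul φQ b g, e1, aut_mul, hgQ, hgQ, ← aut_mul φQ (b ^ 2) g, ← hcb2, aut_mul, hgQ]
        ac_rfl
    have htP : ∀ m x, φP g m = m → (B (φP b m) x) ^ 2 = (B m x)⁻¹ := by
      intro m x hm
      let χ : P →* N := (MonoidHom.eval x).comp B
      have h1 := hPfix (χ * χ.comp (φP b).toMonoidHom * χ.comp (φP (b ^ 2)).toMonoidHom)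
        (h'.fixed_of_gen (dual φP) ?_ ?_)
      · have h2 := DFunLike.congr_fun h1 m
        change B m x * B (φP b m) x * B (φP (b ^ 2) m) x = 1 at h2
        have h3 : φP (b ^ 2) m = φP g (φP b m) := by rw [← aut_mul, hcb2, aut_mul, hm]
        rw [h3, hgP, mul_assoc, ← sq] at h2
        exact eq_inv_of_mul_eq_one_right h2
      · rw [dual_eq_iff]
        intro y
        change B (φP b y) x * B (φP b (φP b y)) x * B (φP (b ^ 2) (φP b y)) x =
          B y x * B (φP b y) x * B (φP (b ^ 2) y) x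
        rw [← aut_mul, ← aut_mul, ← sq, ← pow_succ, hb3, aut_one]
        ac_rfl
      · rw [dual_eq_iff]
        intro y
        change B (φP g y) x * B (φP b (φP g y)) x * B (φP (b ^ 2) (φP g y)) x =
          B y x * B (φP b y) x * B (φP (b ^ 2) y) x
        have e1 : b * g = g * b ^ 2 := by
          rw [sq, ← mul_assoc, hcb2, mul_assoc, hcb2, ← mul_assoc, ← pow_add, pow_succ b 3,
            hb3, one_mul]
        rw [← aut_mul φP b g, e1, aut_mul, hgP, hgP, ← aut_mul φP (b ^ 2) g, ← hcb2, aut_mul, hgP]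
        ac_rfl
    obtain ⟨m, hm, hBm⟩ := hrepP m₀
    obtain ⟨x, hx, hBx⟩ := hrepQ x₀
    rw [← hBm, ← hBx]
    change B m x = 1
    set u := B m x with hu
    set v := B (φP b m) (φQ b x) with hv
    obtain ⟨x1, hx1, hBx1⟩ := hrepQ (φQ b x)
    have h4 : v ^ 4 = u := by
      rw [hv, ← hBx1, show (4 : ℕ) = 2 * 2 from rfl, pow_mul, htP m x1 hm, hBx1, inv_pow,
        htQ m x hx, inv_inv]
    have h5 := hthree g h' m x hm hx
    rw [← hu, ← hv, show φP (b ^ 2) m = φP g (φP b m) by rw [← aut_mul, hcb2, aut_mul, hm],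
      show φQ (b ^ 2) x = φQ g (φQ b x) by rw [← aut_mul, hcb2, aut_mul, hx], hgP, hgQ, ← hv,
      mul_assoc, ← sq] at h5
    have h6 : v ^ 2 = u⁻¹ := eq_inv_of_mul_eq_one_right h5
    have h7 : u ^ 3 = 1 := by
      have h8 : u = (u ^ 2)⁻¹ := by
        conv_lhs => rw [← h4, show (4 : ℕ) = 2 * 2 from rfl, pow_mul, h6, inv_pow]
      rw [pow_succ]
      conv_lhs => arg 2; rw [h8]
      rw [mul_inv_cancel]
    have h9 : u ^ Nat.card Q = 1 := by rw [hu, ← map_pow, pow_card_eq_one', map_one]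
    exact orderOf_eq_one_iff.1 (Nat.eq_one_of_dvd_coprimes
      ((hQcop.coprime_dvd_right (dvd_mul_right 3 2)).symm)
      (orderOf_dvd_of_pow_eq_one h7) (orderOf_dvd_of_pow_eq_one h9))

variable {H : Type*} [Group H] {K : Type*} [Field K] {U : Type*} [AddCommGroup U] [Module K U]

namespace Setup

variable {b c : A} {φ : A →* MulAut H} {ρ : H →* Module.End K U} {S : A →* Module.End K U}

theorem commute_of_pGroup [Finite A] [Finite H] [IsAlgClosed K] [FiniteDimensional K U]
    (h : Setup b c 3 2 φ ρ S) {r : ℕ} (hr : r.Prime) (hrK : (r : K) ≠ 0) (R₀ : Subgroup H)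
    (hR₀ : IsPGroup r R₀) (hR₀i : ∀ a, ∀ x ∈ R₀, φ a x ∈ R₀) :
    ∀ x ∈ R₀, ∀ y ∈ R₀, x * y = y * x := by
  classical
  haveI := Fact.mk hr
  by_contra hne
  obtain ⟨R, hRR, hRmin⟩ := Finite.exists_le_minimal (p := fun R' : Subgroup H =>
    R' ≤ R₀ ∧ (∀ a, ∀ x ∈ R', φ a x ∈ R') ∧ ¬ ∀ x ∈ R', ∀ y ∈ R', x * y = y * x) (a := R₀)
    ⟨le_rfl, hR₀i, hne⟩
  obtain ⟨-, hRi, hRne⟩ := hRmin.prop
  have hRp : IsPGroup r R := hR₀.to_le hRR
  set φR := resAut φ R hRi with hφR
  push Not at hRne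
  obtain ⟨x₀, hx₀, y₀, hy₀, hxy⟩ := hRne
  haveI : Nontrivial R := ⟨⟨⟨x₀, hx₀⟩, 1, fun h1 => hxy (by
    rw [show x₀ = 1 from congrArg Subtype.val h1, one_mul, mul_one])⟩⟩
  have hr2 : r ≠ 2 := by
    rintro rfl
    obtain ⟨i, hi⟩ := IsPGroup.iff_card.1 hRp
    have h1 : 1 < Nat.card R := Finite.one_lt_card_iff_nontrivial.2 inferInstance
    rw [hi] at h1
    refine Nat.prime_two.not_dvd_one (h.cop ▸ Nat.dvd_gcd ?_ (dvd_mul_left 2 3))
    refine dvd_trans ?_ R.card_subgroup_dvd_card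
    rw [hi]
    exact dvd_pow_self 2 (fun h0 => by simp [h0] at h1)
  have hchar : ∀ (L : Subgroup R) [L.Characteristic] (e : R ≃* R), ∀ x ∈ L, e x ∈ L :=
    fun L hL e x hx => Subgroup.characteristic_iff_map_eq.1 hL e ▸ ⟨x, hx, rfl⟩
  have hproper : ∀ L : Subgroup R, (∀ a, ∀ x ∈ L, φR a x ∈ L) → L ≠ ⊤ →
      ∀ x ∈ L, ∀ y ∈ L, x * y = y * x := by
    intro L hL hLne x hx y hy
    by_contra hc
    refine (map_subtype_lt hLne).not_ge (hRmin.2 ⟨(map_subtype_le L).trans hRR,
      map_subtype_invariant φ hRi hL, fun hall => hc ?_⟩ (map_subtype_le L))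
    exact Subtype.ext (hall x ⟨x, hx, rfl⟩ y ⟨y, hy, rfl⟩)
  have hfrne : frattini R ≠ ⊤ := by
    obtain h | ⟨M', hM', -⟩ := eq_top_or_exists_le_coatom (⊥ : Subgroup R)
    · exact absurd h bot_ne_top
    · exact fun hfr => hM'.1 (top_le_iff.1 (hfr ▸ frattini_le_coatom hM'))
  have hRcard : (Nat.card R).Coprime (3 * 2) := h.cop_sub R
  have hcardK : ∀ L : Subgroup H, L ≤ R → (Nat.card L : K) ≠ 0 := by
    intro L hL
    obtain ⟨i, hi⟩ := IsPGroup.iff_card.1 (hRp.to_le hL)
    rw [hi, Nat.cast_pow]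
    exact pow_ne_zero _ hrK
  have hci : ∀ a, ∀ x ∈ center R, φR a x ∈ center R := fun a => hchar _ _
  set φC := resAut φR (center R) hci with hφC
  -- the common final argument
  have finish : ∀ (P : Subgroup R) (hPc : ∀ m ∈ P, ∀ x : R, m * x * m⁻¹ * x⁻¹ ∈ center R)
      (hPi : ∀ a, ∀ x ∈ P, φR a x ∈ P) (ν : center R →* Kˣ) (g : A), g ≠ 1 →
      (∀ m x, cpair hPc ν (resAut φR P hPi g m) x = cpair hPc ν m x) →
      (∀ m x, cpair hPc ν m (φR g x) = cpair hPc ν m x) → cpair hPc ν = 1 := by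
    intro P hPc hPi ν g hg h1 h2
    cases nonempty_fintype A
    have hact : ∀ a m x, cpair hPc ν (resAut φR P hPi a m) (φR a x) = ν (φC a (cval hPc m x)) := by
      intro a m x
      rw [cpair_apply]
      congr 1
      apply Subtype.ext
      change φR a m * φR a x * (φR a m)⁻¹ * (φR a x)⁻¹ = φR a ((m : R) * x * (m : R)⁻¹ * x⁻¹)
      simp only [map_mul, map_inv]
    have hfixC : ∀ z : center R, (∀ a, φC a z = z) → z = 1 := fun z hz =>
      Subtype.ext (Subtype.ext (h.fix _ fun a =>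
        congrArg (fun w : center R => ((w : R) : H)) (hz a)))
    refine pairing_eq_one h.pq (resAut φR P hPi) φR
      ((hRcard).coprime_dvd_left P.card_subgroup_dvd_card) hRcard (fun χ hχ => ?_)
      (fun χ hχ => h.char_fixed_trivial R hRi χ hχ) _ (fun m x hall => ?_)
      (fun c' hc' m x hm hx => ?_) hg h1 h2
    · have hPi' : ∀ a, ∀ x ∈ P.map R.subtype, φ a x ∈ P.map R.subtype :=
        map_subtype_invariant φ hRi hPi
      let e : P ≃* P.map R.subtype := P.equivMapOfInjective R.subtype Subtype.coe_injective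
      have h3 := h.char_fixed_trivial (P.map R.subtype) hPi' (χ.comp e.symm.toMonoidHom) fun a => by
        rw [dual_eq_iff]
        intro z
        obtain ⟨y, rfl⟩ := e.surjective z
        have he : resAut φ (P.map R.subtype) hPi' a (e y) = e (resAut φR P hPi a y) :=
          Subtype.ext rfl
        change χ (e.symm (resAut φ (P.map R.subtype) hPi' a (e y))) = χ (e.symm (e y))
        rw [he, MulEquiv.symm_apply_apply, MulEquiv.symm_apply_apply,
          (dual_eq_iff _ a χ).1 (hχ a)]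
      refine MonoidHom.ext fun y => ?_
      have h4 := DFunLike.congr_fun h3 (e y)
      change χ (e.symm (e y)) = 1 at h4
      rwa [MulEquiv.symm_apply_apply] at h4
    · simp only [hact] at hall
      set z := cval hPc m x
      have hprod : ∏ a : A, φC a z = 1 := hfixC _ fun a => by
        rw [map_prod]
        simp only [← aut_mul]
        exact Equiv.prod_comp (Equiv.mulLeft a) (fun a => φC a z)
      have h3 := congrArg ν hprod
      rw [map_prod, map_one] at h3
      simp only [hall, Finset.prod_const, Finset.card_univ, ← Nat.card_eq_fintype_card,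
        h.pq.card] at h3
      rw [cpair_apply] at h3 ⊢
      have h4 : (ν z) ^ Nat.card R = 1 := by
        rw [← map_pow, orderOf_dvd_iff_pow_eq_one.1
          ((orderOf_dvd_natCard z).trans (center R).card_subgroup_dvd_card), map_one]
      exact orderOf_eq_one_iff.1 (Nat.eq_one_of_dvd_coprimes hRcard.symm
        (orderOf_dvd_of_pow_eq_one h3) (orderOf_dvd_of_pow_eq_one h4))
    · rw [hact, hact, cpair_apply, ← map_mul, ← map_mul, ← map_one ν]
      congr 1
      obtain ⟨hcb, -, hb3⟩ := hc'.conj_b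
      have hz : φC c' (cval hPc m x) = cval hPc m x := by
        apply Subtype.ext
        change φR c' ((m : R) * x * (m : R)⁻¹ * x⁻¹) = (m : R) * x * (m : R)⁻¹ * x⁻¹
        have hm' : φR c' (m : R) = m := congrArg Subtype.val hm
        rw [map_mul, map_mul, map_mul, map_inv, map_inv, hm', hx]
      set z := cval hPc m x
      refine hfixC _ (hc'.fixed_of_gen φC ?_ ?_)
      · rw [map_mul, map_mul, ← aut_mul, ← aut_mul, ← sq, ← pow_succ', hb3, aut_one]
        ac_rfl
      · have e1 : c' * b = b ^ 2 * c' := by rw [← hcb, inv_mul_cancel_right]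
        have e2 : c' * b ^ 2 = b * c' := by
          rw [sq, ← mul_assoc, e1, mul_assoc, e1, ← mul_assoc, ← pow_add, pow_succ b 3, hb3,
            one_mul]
        rw [map_mul, map_mul, hz, ← aut_mul, ← aut_mul, e1, e2, aut_mul, aut_mul, hz]
        ac_rfl
  have hweight : ∀ (Z : Subgroup R), (∀ x ∈ Z, ∀ y ∈ Z, x * y = y * x) → ∀ z₀ ∈ Z, z₀ ≠ 1 →
      ∃ (χ : Z.map R.subtype →* Kˣ) (w : U), w ∈ wspace ρ (Z.map R.subtype) χ ∧ w ≠ 0 ∧
        ∀ hz : (z₀ : H) ∈ Z.map R.subtype, χ ⟨z₀, hz⟩ ≠ 1 := by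
    intro Z hZ z₀ hz₀ hz₁
    obtain ⟨χ, w, hw, hw0, hχ⟩ := exists_weight ρ (Z.map R.subtype) (by
        rintro _ ⟨u, hu, rfl⟩ _ ⟨v, hv, rfl⟩
        exact congrArg Subtype.val (hZ u hu v hv))
      (hcardK _ (map_subtype_le Z)) (x := ⟨z₀, z₀, hz₀, rfl⟩)
      (fun h1 => hz₁ (Subtype.ext (h.inj (h1.trans (map_one ρ).symm))))
    exact ⟨χ, w, hw, hw0, fun _ => hχ⟩
  by_cases hD : frattini R ≤ center R
  · -- class two
    set Z : Subgroup H := (center R).map R.subtype with hZ
    have h2 : Class2 R Z :=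
      { le := map_subtype_le _
        mem := fun y hy x hx =>
          ⟨_, hD (Cfsg.Agent.PGroup.comm_mem_frattini hRp ⟨y, hy⟩ ⟨x, hx⟩), rfl⟩
        cen := by
          rintro _ ⟨z, hz, rfl⟩ x hx
          exact (congrArg Subtype.val (mem_center_iff.1 hz ⟨x, hx⟩)).symm }
    have hZi : ∀ a, ∀ x ∈ Z, φ a x ∈ Z := map_subtype_invariant φ hRi hci
    set z₀ : R := ⟨x₀, hx₀⟩ * ⟨y₀, hy₀⟩ * (⟨x₀, hx₀⟩ : R)⁻¹ * (⟨y₀, hy₀⟩ : R)⁻¹ with hz₀
    have hz₀c : z₀ ∈ center R := hD (Cfsg.Agent.PGroup.comm_mem_frattini hRp _ _)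
    have hz₁ : z₀ ≠ 1 := fun h1 => hxy (congrArg Subtype.val
      (mul_inv_eq_iff_eq_mul.1 (mul_inv_eq_one.1 h1)))
    obtain ⟨ζ, w, hw, hw0, hζ⟩ := hweight (center R)
      (fun x hx y _ => (mem_center_iff.1 hx y).symm) z₀ hz₀c hz₁
    have hζ1 : ζ ≠ 1 := fun h1 => hζ ⟨z₀, hz₀c, rfl⟩ (by rw [h1, MonoidHom.one_apply])
    have hcardZ := hcardK Z h2.le
    obtain ⟨g, hg1, hg⟩ := h.exists_stab Z hZi hcardZ hw hw0
    have hstab : ∀ a, dual (resAut φ Z hZi) a ζ = ζ → a ∈ zpowers g := by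
      intro a ha
      let L : Subgroup A :=
        { carrier := {x | dual (resAut φ Z hZi) x ζ = ζ}
          one_mem' := aut_one _ ζ
          mul_mem' := fun {s u} hs hu => by
            change dual (resAut φ Z hZi) (s * u) ζ = ζ
            rw [aut_mul, hu, hs]
          inv_mem' := fun {s} hs => by
            change dual (resAut φ Z hZi) s⁻¹ ζ = ζ
            conv_lhs => rw [← (hs : dual (resAut φ Z hZi) s ζ = ζ)]
            rw [aut_inv_apply] }
      have hL : L ≠ ⊤ := fun h1 => hζ1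
        (h.char_fixed_trivial Z hZi ζ (fun x => (h1.symm ▸ mem_top x : x ∈ L)))
      exact h.pq.proper_eq hL (show g ∈ L from hg) hg1 ▸ (show a ∈ L from ha)
    rcases h.hh h2 hRp hrK hRi hZi hw hw0 hg1 hg hstab with htriv | ⟨h', -⟩
    swap; · exact hr2 h'
    let e : center R ≃* Z := (center R).equivMapOfInjective R.subtype Subtype.coe_injective
    have hPc : ∀ m ∈ (⊤ : Subgroup R), ∀ x : R, m * x * m⁻¹ * x⁻¹ ∈ center R :=
      fun m _ x => hD (Cfsg.Agent.PGroup.comm_mem_frattini hRp m x)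
    have hval : ∀ (m : (⊤ : Subgroup R)) x,
        cpair hPc (ζ.comp e.toMonoidHom) m x = h2.pairing ζ (m : R) x := fun m x => by
      rw [cpair_apply, h2.pairing_apply]; rfl
    have h3 := finish ⊤ hPc (fun _ _ _ => mem_top _) (ζ.comp e.toMonoidHom) g hg1
      (fun m x => by rw [hval, hval]; exact DFunLike.congr_fun (htriv m) x)
      (fun m x => by
        rw [hval, hval]
        conv_lhs => rw [← htriv]
        exact h2.pairing_act ζ φ hRi hZi hg _ _)
    have h4 := DFunLike.congr_fun (DFunLike.congr_fun h3 ⟨⟨x₀, hx₀⟩, mem_top _⟩) (⟨y₀, hy₀⟩ : R)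
    exact hζ ⟨z₀, hz₀c, rfl⟩ h4
  · -- an abelian self-centralising subgroup
    set M : Subgroup R := centralizer (frattini R : Set R) with hM
    have hMne : M ≠ ⊤ := fun h1 => hD fun f hf => mem_center_iff.2 fun y =>
      (mem_centralizer_iff.1 (h1.symm ▸ mem_top y : y ∈ M) f hf).symm
    have hMi : ∀ (e : R ≃* R), ∀ x ∈ M, e x ∈ M := by
      intro e x hx
      rw [hM, mem_centralizer_iff] at hx ⊢
      intro f hf
      have h1 := hx (e.symm f) (hchar _ e.symm f hf)
      have h3 := congrArg e h1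
      rwa [map_mul, map_mul, MulEquiv.apply_symm_apply] at h3
    haveI hMn : M.Normal := ⟨fun m hm g => hMi (MulAut.conj g) m hm⟩
    have hMab : ∀ x ∈ M, ∀ y ∈ M, x * y = y * x := hproper M (fun a => hMi _) hMne
    have hFM : frattini R ≤ M := fun f hf => mem_centralizer_iff.2 fun y hy =>
      hproper (frattini R) (fun a => hchar _ _) hfrne y hy f hf
    have hMc : ¬ M ≤ center R := fun h1 => hD (hFM.trans h1)
    have hcM : center R ≤ M := fun z hz => mem_centralizer_iff.2 fun y _ => mem_center_iff.1 hz y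
    let P : Subgroup R := M ⊓ (center (R ⧸ center R)).comap (QuotientGroup.mk' (center R))
    have hPc : ∀ m ∈ P, ∀ x : R, m * x * m⁻¹ * x⁻¹ ∈ center R := by
      intro m hm x
      have h1 := mem_center_iff.1 hm.2 (QuotientGroup.mk' (center R) x)
      rw [← QuotientGroup.eq_one_iff]
      change QuotientGroup.mk' (center R) (m * x * m⁻¹ * x⁻¹) = 1
      rw [map_mul, map_mul, map_mul, map_inv, map_inv, ← h1, mul_inv_cancel_right, mul_inv_cancel]
    have hPi : ∀ a, ∀ x ∈ P, φR a x ∈ P := by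
      intro a x hx
      refine ⟨hMi _ x hx.1, ?_⟩
      change QuotientGroup.mk' (center R) (φR a x) ∈ center _
      rw [mem_center_iff]
      intro y
      obtain ⟨y, rfl⟩ := QuotientGroup.mk'_surjective (center R) y
      obtain ⟨y', hy'⟩ := (φR a).surjective y
      have h3 := hci a _ (hPc x hx y')
      rw [map_mul, map_mul, map_mul, map_inv, map_inv, hy', ← QuotientGroup.eq_one_iff] at h3
      change QuotientGroup.mk' (center R) (φR a x * y * (φR a x)⁻¹ * y⁻¹) = 1 at h3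
      rw [map_mul, map_mul, map_mul, map_inv, map_inv] at h3
      exact (mul_inv_eq_iff_eq_mul.1 (mul_inv_eq_one.1 h3)).symm
    obtain ⟨m₀, hm₀, hm₀c⟩ : ∃ m ∈ P, m ∉ center R := by
      have h1 : M.map (QuotientGroup.mk' (center R)) ≠ ⊥ := by
        rw [Ne, Subgroup.map_eq_bot_iff, QuotientGroup.ker_mk']
        exact hMc
      haveI : (M.map (QuotientGroup.mk' (center R))).Normal :=
        hMn.map _ (QuotientGroup.mk'_surjective _)
      have h3 := Cfsg.Agent.PGroup.inf_center_ne_bot (hRp.to_quotient (center R)) h1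
      obtain ⟨y, hy, hy1⟩ := (Subgroup.ne_bot_iff_exists_ne_one.1 h3) |> fun ⟨z, hz⟩ =>
        (⟨(z : R ⧸ center R), z.2, fun h4 => hz (Subtype.ext h4)⟩ :
          ∃ y ∈ M.map (QuotientGroup.mk' (center R)) ⊓ center (R ⧸ center R), y ≠ 1)
      obtain ⟨⟨m, hm, rfl⟩, hyc⟩ := hy
      exact ⟨m, ⟨hm, hyc⟩, fun h4 => hy1 ((QuotientGroup.eq_one_iff m).2 h4)⟩
    obtain ⟨x₁, hx₁⟩ : ∃ x, m₀ * x ≠ x * m₀ := by
      by_contra hc
      push Not at hc
      exact hm₀c (mem_center_iff.2 fun x => (hc x).symm)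
    set z₀ : R := m₀ * x₁ * m₀⁻¹ * x₁⁻¹
    have hz₀c : z₀ ∈ center R := hPc m₀ hm₀ x₁
    have hz₁ : z₀ ≠ 1 := fun h1 => hx₁ (mul_inv_eq_iff_eq_mul.1 (mul_inv_eq_one.1 h1))
    obtain ⟨χ, w, hw, hw0, hχ⟩ := hweight M hMab z₀ (hcM hz₀c) hz₁
    let MH : Subgroup H := M.map R.subtype
    have hMHi : ∀ a, ∀ x ∈ MH, φ a x ∈ MH := map_subtype_invariant φ hRi fun a => hMi _
    have hRM : ∀ u ∈ R, ∀ x ∈ MH, u * x * u⁻¹ ∈ MH := by
      rintro u hu _ ⟨y, hy, rfl⟩
      exact ⟨_, hMn.conj_mem y hy ⟨u, hu⟩, rfl⟩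
    have hχ1 : χ ≠ 1 := fun h1 => hχ ⟨z₀, hcM hz₀c, rfl⟩ (by rw [h1, MonoidHom.one_apply])
    obtain ⟨g, hg1, hg⟩ := h.one_type MH R hMHi hRi hRM (hcardK MH (map_subtype_le M)) hw hw0 hχ1
    let e : M ≃* MH := M.equivMapOfInjective R.subtype Subtype.coe_injective
    let ν : center R →* Kˣ := (χ.comp e.toMonoidHom).comp (Subgroup.inclusion hcM)
    have hν : ∀ (z : center R) (hz : ((z : R) : H) ∈ MH), ν z = χ ⟨(z : R), hz⟩ := fun z hz => rfl
    have hgχ : ∀ y : MH, χ (resAut φ MH hMHi g y) = χ y := by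
      have h1 := hg 1
      rw [aut_one] at h1
      exact (dual_eq_iff _ g χ).1 h1
    have hk : ∀ (u : R) (y : MH), χ (conjRes R MH hRM (u⁻¹ * φR g u) y) = χ y := by
      intro u
      have h1 := hg u
      have hgfix : dual (resAut φ MH hMHi) g χ = χ := (dual_eq_iff _ g χ).2 hgχ
      rw [dual_compat MH R hMHi hRi hRM, hgfix] at h1
      refine (dual_eq_iff _ (u⁻¹ * φR g u) χ).1 ?_
      rw [aut_mul]
      change dual (conjRes R MH hRM) u⁻¹ (dual (conjRes R MH hRM) (resAut φ R hRi g u) χ) = χ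
      rw [h1, aut_inv_apply]
    have hinv : ∀ m x, cpair hPc ν (resAut φR P hPi g m) (φR g x) = cpair hPc ν m x := by
      intro m x
      rw [cpair_apply, cpair_apply, hν _ ⟨_, hcM (cval hPc _ _).2, rfl⟩,
        hν _ ⟨_, hcM (cval hPc _ _).2, rfl⟩]
      conv_rhs => rw [← hgχ]
      congr 1
      apply Subtype.ext
      change ((φR g m : R) : H) * (φR g x : R) * ((φR g m : R) : H)⁻¹ * ((φR g x : R) : H)⁻¹ =
        φ g (((m : R) : H) * x * ((m : R) : H)⁻¹ * (x : H)⁻¹)
      simp only [map_mul, map_inv, hφR, resAut_val]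
    have h2nd : ∀ m x, cpair hPc ν m (φR g x) = cpair hPc ν m x := by
      intro m x
      have hkm : cpair hPc ν m (x⁻¹ * φR g x) = 1 := by
        set k : R := x⁻¹ * φR g x with hkdef
        rw [cpair_apply, hν _ ⟨_, hcM (cval hPc _ _).2, rfl⟩]
        have hm1 : ((m : R) : H) ∈ MH := ⟨_, m.2.1, rfl⟩
        have h1 := hk x (⟨_, hm1⟩ : MH)⁻¹
        rw [← hkdef] at h1
        have h3 : χ (⟨_, hm1⟩ : MH) * χ (conjRes R MH hRM k (⟨_, hm1⟩ : MH)⁻¹) = 1 := by
          rw [h1, map_inv, mul_inv_cancel]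
        rw [← map_mul] at h3
        refine Eq.trans ?_ h3
        congr 1
        apply Subtype.ext
        change ((m : R) : H) * k * ((m : R) : H)⁻¹ * (k : H)⁻¹ =
          ((m : R) : H) * ((k : H) * ((m : R) : H)⁻¹ * (k : H)⁻¹)
        group
      rw [map_mul, map_inv] at hkm
      exact (inv_mul_eq_one.1 hkm).symm
    have h3 := finish P hPc hPi ν g hg1
      (fun m x => by
        conv_lhs => rw [← aut_apply_inv φR g x]
        rw [hinv, ← h2nd m (φR g⁻¹ x), aut_apply_inv])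
      h2nd
    have h4 := DFunLike.congr_fun (DFunLike.congr_fun h3 ⟨m₀, hm₀⟩) x₁
    exact hχ ⟨z₀, hcM hz₀c, rfl⟩ h4

theorem commutative [Finite A] [Finite H] [IsAlgClosed K] [FiniteDimensional K U]
    (h : Setup b c 3 2 φ ρ S) (hsol : Group.IsSolvable H) (l : ℕ)
    (hK : ∀ r : ℕ, r.Prime → r ≠ l → (r : K) ≠ 0) (hcore : Cfsg.pCore l H = ⊥) :
    ∀ x y : H, x * y = y * x := by
  classical
  haveI := h.isNilpotent hsol l hK hcore
  have hn : ∀ (r : ℕ) [Fact r.Prime] (P : Sylow r H), (P : Subgroup H).Normal :=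
    fun r _ P => P.normal_of_normalizerCondition Group.normalizerCondition_of_isNilpotent
  have hcen : center H = ⊤ := by
    refine eq_top_of_forall_sylow_le _ fun r hr => ?_
    haveI := Fact.mk hr
    obtain ⟨P⟩ : Nonempty (Sylow r H) := inferInstance
    haveI := hn r P
    refine ⟨P, fun x hx => mem_center_iff.2 fun y => ?_⟩
    have htop : centralizer ({x} : Set H) = ⊤ := by
      refine eq_top_of_forall_sylow_le _ fun s hs => ?_
      haveI := Fact.mk hs
      obtain ⟨Q⟩ : Nonempty (Sylow s H) := inferInstance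
      rcases eq_or_ne s r with rfl | hsr
      · refine ⟨P, fun z hz => mem_centralizer_singleton_iff.2 ?_⟩
        by_cases hsl : s = l
        · subst hsl
          have h1 : (P : Subgroup H) ≤ Cfsg.pCore s H := le_sSup ⟨inferInstance, P.2⟩
          rw [hcore] at h1
          rw [mem_bot.1 (h1 hx), one_mul, mul_one]
        · haveI := P.characteristic_of_normal inferInstance
          exact h.commute_of_pGroup hs (hK s hs hsl) P P.2
            (fun a u hu => Subgroup.characteristic_iff_map_eq.1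
              (inferInstance : (P : Subgroup H).Characteristic) (φ a) ▸ ⟨u, hu, rfl⟩) z hz x hx
      · haveI := hn s Q
        refine ⟨Q, fun z hz => mem_centralizer_singleton_iff.2 ?_⟩
        exact commute_of_normal_of_disjoint _ _ inferInstance inferInstance
          (IsPGroup.disjoint_of_ne s r hsr _ _ Q.2 P.2) z x hz hx
    exact mem_centralizer_singleton_iff.1 (htop.symm ▸ mem_top y)
  exact fun x y => mem_center_iff.1 (hcen.symm ▸ mem_top y) x

end Setup

end Cfsg.Agent.PQAct
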